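import Cfsg.Agent.Lib.Spor.JThreeCent.Bound
import Cfsg.Agent.Lib.Spor.J3.Mat.Group
import Cfsg.Agent.Lib.Spor.AffineExtraspecial
import Cfsg.Agent.Lib.Spor.ExtraspecialSubgroup

/-!
The involutions of the third Janko group form one class, with centralizer a split extension of an extraspecial
group of order 32 by the alternating group of degree five.
-/

set_option autoImplicit false
set_option maxRecDepth 100000

namespace CfsgLib.Spor.JThreeCent

open CfsgLib.Spor.TC CfsgLib.Spor.ActCert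

local notation "P₀" => Pres (Act.k CfsgLib.Spor.J3.ActJ.act) CfsgLib.Spor.J3.relsJ

variable {G : Type*} [Group G] (e : P₀ ≃* G)

/-- Generators given by words. -/
noncomputable def gim (gw : List (List ℕ)) (x : ℕ) : G := e (elJ (gw.getD x []))

theorem map_ev_gim (gw : List (List ℕ)) (w : List ℕ) : ev (gim e gw) w = e (elJ (spell gw w)) := by
  induction w with
  | nil => rw [spell, elJ_nil, map_one]; simp [ev]
  | cons x w ih => rw [spell, elJ_append, map_mul, ev_cons, ih]; rfl

theorem nth_gim (gw wd : List (List ℕ)) (i : ℕ) : nth (gim e gw) wd i = e (elJ (spAt gw wd i)) :=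
  map_ev_gim e gw _

theorem listed_of {gw wd tb : List (List ℕ)} {k : ℕ} (h : tableOK gw wd tb = true) (h0 : wd.getD 0 [] = [])
    (hk : gw.length = k) (hpos : 0 < wd.length) : Listed (gim e gw) k wd tb := by
  simp only [tableOK, List.all_eq_true, List.mem_range, Bool.and_eq_true] at h
  refine ⟨h0, hpos, fun i hi x hx => hk ▸ Nat.le_of_ble_eq_true ((h i hi).1 x hx), fun i hi x hx => ?_⟩
  obtain ⟨h1, h2⟩ := (h i hi).2 x (hk ▸ hx)
  refine ⟨Nat.le_of_ble_eq_true h1, ?_⟩
  rw [nth_gim, nth_gim]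
  show e (elJ (spAt gw wd i)) * e (elJ (gw.getD x [])) = _
  rw [← map_mul, ← elJ_append, elJ_eq h2]

theorem qListed : Listed (gim e qGens) 5 qWords qTable :=
  listed_of e qTable_ok.1 qTable_ok.2.1 qTable_ok.2.2.1 (qTable_ok.2.2.2.symm ▸ Nat.succ_pos 31)

theorem hListed : Listed (gim e hGens) 2 hWords hTable :=
  listed_of e hTable_ok.1 hTable_ok.2.1 hTable_ok.2.2.1 (hTable_ok.2.2.2.symm ▸ Nat.succ_pos 59)

theorem vListed : Listed (gim e vGens) 2 vWords vTable :=
  listed_of e vTable_ok.1 vTable_ok.2.1 vTable_ok.2.2.1 (vTable_ok.2.2.2.symm ▸ Nat.succ_pos 3)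

/-- The extraspecial subgroup. -/
noncomputable def subQ : Subgroup G := Subgroup.closure (gim e qGens '' Set.Iio 5)

/-- The complement. -/
noncomputable def subH : Subgroup G := Subgroup.closure (gim e hGens '' Set.Iio 2)

/-- A four group in the complement. -/
noncomputable def subV : Subgroup G := Subgroup.closure (gim e vGens '' Set.Iio 2)

/-- The elements of the extraspecial subgroup. -/
noncomputable def qn (i : ℕ) : G := nth (gim e qGens) qWords i

variable [Finite G]

theorem mem_subQ {y : G} : y ∈ subQ e ↔ ∃ i, i < 32 ∧ y = qn e i := by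
  rw [subQ, (qListed e).mem_iff, qTable_ok.2.2.2]
  rfl

omit [Finite G] in
theorem qn_inj {i j : ℕ} (hi : i < 32) (hj : j < 32) (h : qn e i = qn e j) : i = j := by
  have hd := qDistinct
  simp only [List.all_eq_true, List.mem_range] at hd
  have key : ∀ a b, a < 32 → b < a → qn e a ≠ qn e b := fun a b ha hb => by
    rw [qn, qn, nth_gim, nth_gim]
    exact fun hab => elJ_ne (hd a ha b hb) (e.injective hab)
  rcases lt_trichotomy i j with h' | h' | h'
  · exact absurd h.symm (key j i hj h')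
  · exact h'
  · exact absurd h (key i j hi h')

theorem card_subQ : Nat.card (subQ e) = 32 := by
  rw [subQ, (qListed e).card fun i j hi hj h => qn_inj e (qTable_ok.2.2.2 ▸ hi) (qTable_ok.2.2.2 ▸ hj) h,
    qTable_ok.2.2.2]

theorem card_subV : Nat.card (subV e) = 4 := by
  have hd := vDistinct
  simp only [List.all_eq_true, List.mem_range] at hd
  have key : ∀ a b, a < 4 → b < a → nth (gim e vGens) vWords a ≠ nth (gim e vGens) vWords b := fun a b ha hb => by
    rw [nth_gim, nth_gim]
    exact fun hab => elJ_ne (hd a ha b hb) (e.injective hab)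
  rw [subV, (vListed e).card, vTable_ok.2.2.2]
  intro i j hi hj h
  rw [vTable_ok.2.2.2] at hi hj
  rcases lt_trichotomy i j with h' | h' | h'
  · exact absurd h.symm (key j i hj h')
  · exact h'
  · exact absurd h (key i j hi h')

/-- Even permutations with the products of the generators of the complement. -/
def aImg (x : ℕ) : Equiv.Perm (Fin 5) :=
  if x = 0 then Equiv.swap 1 2 * Equiv.swap 3 4
  else ⟨![1, 3, 2, 0, 4], ![3, 0, 2, 1, 4], by decide, by decide⟩

theorem aListed : Listed aImg 2 hWords hTable := by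
  refine ⟨hTable_ok.2.1, hTable_ok.2.2.2.symm ▸ Nat.succ_pos 59, fun i hi x hx => ?_, fun i hi x hx => ?_⟩
  · exact (hListed (MulEquiv.refl P₀)).lt i hi x hx
  · refine ⟨((hListed (MulEquiv.refl P₀)).step i hi x hx).1, ?_⟩
    have h : ∀ i : Fin 60, ∀ x : Fin 2,
        nth aImg hWords i * aImg x = nth aImg hWords (next hTable i x) := by decide +kernel
    exact h ⟨i, hTable_ok.2.2.2 ▸ hi⟩ ⟨x, hx⟩

theorem aImg_inj : ∀ i j : Fin 60, nth aImg hWords i = nth aImg hWords j → i = j := by decide +kernel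

theorem aImg_even : ∀ x : Fin 2, Equiv.Perm.sign (aImg x) = 1 := by decide +kernel

/-- The pairs. -/
noncomputable def pairImg (x : ℕ) : Equiv.Perm (Fin 5) × G := (aImg x, gim e hGens x)

omit [Finite G] in
theorem nth_pair (i : ℕ) :
    nth (pairImg e) hWords i = (nth aImg hWords i, nth (gim e hGens) hWords i) := by
  have : ∀ w : List ℕ, ev (pairImg e) w = (ev aImg w, ev (gim e hGens) w) := fun w => by
    induction w with
    | nil => simp [ev, Prod.ext_iff]
    | cons x w ih => rw [ev_cons, ev_cons, ev_cons, ih]; rfl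
  exact this _

omit [Finite G] in
theorem pairListed : Listed (pairImg e) 2 hWords hTable :=
  ⟨hTable_ok.2.1, aListed.pos, aListed.lt, fun i hi x hx => ⟨(aListed.step i hi x hx).1, by
    rw [nth_pair, nth_pair]
    exact Prod.ext (aListed.step i hi x hx).2 ((hListed e).step i hi x hx).2⟩⟩

theorem exists_subH_iso : Nonempty (↥(subH e) ≃* ↥(alternatingGroup (Fin 5))) := by
  set D := Subgroup.closure (pairImg e '' Set.Iio 2) with hD
  have hmem : ∀ y, y ∈ D ↔ ∃ i, i < 60 ∧ y = (nth aImg hWords i, nth (gim e hGens) hWords i) := fun y => by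
    rw [hD, (pairListed e).mem_iff, hTable_ok.2.2.2]
    simp only [nth_pair]
  have hfst : D.map (MonoidHom.fst (Equiv.Perm (Fin 5)) G) = alternatingGroup (Fin 5) := by
    refine Subgroup.eq_of_le_of_card_ge ?_ ?_
    · rw [hD, MonoidHom.map_closure, Subgroup.closure_le]
      rintro _ ⟨_, ⟨x, hx, rfl⟩, rfl⟩
      exact aImg_even ⟨x, hx⟩
    · rw [nat_card_alternatingGroup, Nat.card_fin]
      let f : Fin 60 → ↥(D.map (MonoidHom.fst (Equiv.Perm (Fin 5)) G)) := fun i =>
        ⟨nth aImg hWords i, _, (hmem (nth aImg hWords i, nth (gim e hGens) hWords i)).2 ⟨i, i.2, rfl⟩, rfl⟩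
      have := Nat.card_le_card_of_injective f fun i j h => aImg_inj i j (congrArg Subtype.val h)
      rw [Nat.card_fin] at this
      exact le_trans (by decide) this
  have hsnd : D.map (MonoidHom.snd (Equiv.Perm (Fin 5)) G) = subH e := by
    rw [hD, MonoidHom.map_closure, ← Set.image_comp]
    rfl
  let p1 : ↥D →* Equiv.Perm (Fin 5) := (MonoidHom.fst _ _).comp D.subtype
  let p2 : ↥D →* G := (MonoidHom.snd _ _).comp D.subtype
  have hd := hDistinct
  simp only [List.all_eq_true, List.mem_range] at hd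
  have hinj : ∀ y : ↥D, (y.1.1 = 1 ∨ y.1.2 = 1) → y = 1 := fun y hy => by
    obtain ⟨i, hi, hyi⟩ := (hmem y.1).1 y.2
    have h0 : i = 0 := by
      by_contra hne
      rw [hyi] at hy
      rcases hy with h | h
      · refine hne ?_
        exact congrArg Fin.val (aImg_inj ⟨i, hi⟩ 0 (h.trans aListed.nth_zero.symm))
      · have h1 := hd (i - 1) (by omega)
        rw [Nat.sub_add_cancel (Nat.pos_of_ne_zero hne)] at h1
        rw [nth_gim, ← map_one e] at h
        exact elJ_ne_one h1 (e.injective h)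
    subst h0
    refine Subtype.ext (hyi.trans ?_)
    rw [aListed.nth_zero, (hListed e).nth_zero]
    rfl
  have i1 : Function.Injective p1 :=
    (injective_iff_map_eq_one p1).2 fun y hy => hinj y (Or.inl hy)
  have i2 : Function.Injective p2 :=
    (injective_iff_map_eq_one p2).2 fun y hy => hinj y (Or.inr hy)
  have r1 : p1.range = alternatingGroup (Fin 5) := by
    rw [MonoidHom.range_comp, Subgroup.range_subtype, hfst]
  have r2 : p2.range = subH e := by rw [MonoidHom.range_comp, Subgroup.range_subtype, hsnd]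
  exact ⟨((MulEquiv.subgroupCongr r2).symm.trans (MonoidHom.ofInjective i2).symm).trans
    ((MonoidHom.ofInjective i1).trans (MulEquiv.subgroupCongr r1))⟩

theorem card_subH : Nat.card (subH e) = 60 := by
  obtain ⟨f⟩ := exists_subH_iso e
  rw [Nat.card_congr f.toEquiv, nat_card_alternatingGroup, Nat.card_fin]
  rfl

theorem conj_mem {g : G} (hg : g ∈ Set.range fun t : Fin 3 => gim e (hGens ++ vGens.drop 1) t) {y : G}
    (hy : y ∈ subQ e) : g * y * g⁻¹ ∈ subQ e := by
  obtain ⟨t, rfl⟩ := hg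
  obtain ⟨i, hi, rfl⟩ := (mem_subQ e).1 hy
  have h := conj_ok
  simp only [List.all_eq_true, List.mem_range, Bool.and_eq_true] at h
  obtain ⟨h1, h2⟩ := h t t.2 i hi
  refine (mem_subQ e).2 ⟨_, Nat.le_of_ble_eq_true h1, ?_⟩
  rw [mul_inv_eq_iff_eq_mul, qn, qn, nth_gim, nth_gim]
  show e (elJ _) * e (elJ _) = e (elJ _) * e (elJ _)
  rw [← map_mul, ← map_mul, ← elJ_append, ← elJ_append,
    elJ_eq h2]

theorem closure_le_normalizer {S : Set G}
    (hS : S ⊆ Set.range fun t : Fin 3 => gim e (hGens ++ vGens.drop 1) t) :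
    Subgroup.closure S ≤ Subgroup.normalizer (subQ e : Set G) := by
  rw [Subgroup.closure_le]
  intro g hg
  exact Subgroup.mem_normalizer_fintype fun y hy => conj_mem e (hS hg) hy

theorem subH_normalizes : subH e ≤ Subgroup.normalizer (subQ e : Set G) := by
  refine closure_le_normalizer e ?_
  rintro _ ⟨x, hx, rfl⟩
  have hx : x < 2 := hx
  refine ⟨⟨x, by omega⟩, ?_⟩
  interval_cases x <;> rfl

theorem subV_normalizes : subV e ≤ Subgroup.normalizer (subQ e : Set G) := by
  refine closure_le_normalizer e ?_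
  rintro _ ⟨x, hx, rfl⟩
  have hx : x < 2 := hx
  interval_cases x
  · refine ⟨0, ?_⟩
    show gim e (hGens ++ vGens.drop 1) 0 = gim e vGens 0
    rw [gim, gim, vGens_head]
    rfl
  · exact ⟨2, rfl⟩

theorem disjoint_QH : Disjoint (subQ e) (subH e) := by
  rw [Subgroup.disjoint_def]
  intro y hy1 hy2
  obtain ⟨i, hi, rfl⟩ := (mem_subQ e).1 hy1
  obtain ⟨j, hj, hij⟩ := (hListed e).mem_iff.1 hy2
  rw [hTable_ok.2.2.2] at hj
  by_cases hj0 : j = 0
  · rw [hij, hj0, (hListed e).nth_zero]
  · exfalso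
    have h := qh_disjoint
    simp only [List.all_eq_true, List.mem_range] at h
    have h1 := h (j - 1) (by omega) i hi
    rw [Nat.sub_add_cancel (Nat.pos_of_ne_zero hj0)] at h1
    rw [qn, nth_gim, nth_gim] at hij
    exact elJ_ne h1 (e.injective hij.symm)

theorem disjoint_QV : Disjoint (subQ e) (subV e) := by
  rw [Subgroup.disjoint_def]
  intro y hy1 hy2
  obtain ⟨i, hi, rfl⟩ := (mem_subQ e).1 hy1
  obtain ⟨j, hj, hij⟩ := (vListed e).mem_iff.1 hy2
  rw [vTable_ok.2.2.2] at hj
  by_cases hj0 : j = 0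
  · rw [hij, hj0, (vListed e).nth_zero]
  · exfalso
    have h := qv_disjoint
    simp only [List.all_eq_true, List.mem_range] at h
    have h1 := h (j - 1) (by omega) i hi
    rw [Nat.sub_add_cancel (Nat.pos_of_ne_zero hj0)] at h1
    rw [qn, nth_gim, nth_gim] at hij
    exact elJ_ne h1 (e.injective hij.symm)

omit [Finite G] in
theorem card_sup {Q H : Subgroup G} (hd : Disjoint Q H) (hn : H ≤ Subgroup.normalizer (Q : Set G)) :
    Nat.card ↥(Q ⊔ H) = Nat.card Q * Nat.card H := by
  let f : Q × H → ↥(Q ⊔ H) := fun p =>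
    ⟨p.1.1 * p.2.1, mul_mem (Subgroup.mem_sup_left p.1.2) (Subgroup.mem_sup_right p.2.2)⟩
  have hinj : Function.Injective f := fun a b h =>
    Subgroup.mul_injective_of_disjoint hd (congrArg Subtype.val h)
  have hsurj : Function.Surjective f := fun y => by
    have hy : (y : G) ∈ ((Q ⊔ H : Subgroup G) : Set G) := y.2
    rw [Subgroup.coe_mul_of_right_le_normalizer_left (N := Q) (H := H) hn] at hy
    obtain ⟨a, ha, b, hb, hab⟩ := Set.mem_mul.1 hy
    exact ⟨(⟨a, ha⟩, ⟨b, hb⟩), Subtype.ext hab⟩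
  rw [← Nat.card_congr (Equiv.ofBijective f ⟨hinj, hsurj⟩), Nat.card_prod]

/-- The involution in the group. -/
noncomputable def zG : G := e zJ

omit [Finite G] in
theorem qn_zIdx : qn e zIdx = zG e := by
  rw [qn, nth_gim, zG, zJ, elJ_eq zIdx_ok.1]
  rfl

omit [Finite G] in
theorem gim_comm {g : List ℕ} (hg : g ∈ qGens ++ hGens ++ vGens) : e (elJ g) * zG e = zG e * e (elJ g) := by
  have h := comm_ok
  simp only [List.all_eq_true] at h
  rw [zG, zJ, ← map_mul, ← map_mul, ← elJ_append, ← elJ_append]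
  exact congrArg e (elJ_eq (h g hg))

omit [Finite G] in
theorem closure_le_cent {gw : List (List ℕ)} {k : ℕ} (hk : gw.length = k)
    (hsub : ∀ g ∈ gw, g ∈ qGens ++ hGens ++ vGens) :
    Subgroup.closure (gim e gw '' Set.Iio k) ≤ Subgroup.centralizer ({zG e} : Set G) := by
  rw [Subgroup.closure_le]
  rintro _ ⟨x, hx, rfl⟩
  have hx : x < gw.length := hk.symm ▸ hx
  refine Subgroup.mem_centralizer_singleton_iff.2 ?_
  rw [gim, List.getD_eq_getElem _ _ hx]
  exact gim_comm e (hsub _ (List.getElem_mem hx))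

theorem subQ_le : subQ e ≤ Subgroup.centralizer ({zG e} : Set G) :=
  closure_le_cent e qTable_ok.2.2.1 fun _ h => List.mem_append_left _ (List.mem_append_left _ h)

theorem subH_le : subH e ≤ Subgroup.centralizer ({zG e} : Set G) :=
  closure_le_cent e hTable_ok.2.2.1 fun _ h => List.mem_append_left _ (List.mem_append_right _ h)

theorem cent_eq : subQ e ⊔ subH e = Subgroup.centralizer ({zG e} : Set G) := by
  set C := Subgroup.centralizer ({zG e} : Set G)
  have hle : subQ e ⊔ subH e ≤ C := sup_le (subQ_le e) (subH_le e)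
  have hcard := card_sup (disjoint_QH e) (subH_normalizes e)
  rw [card_subQ, card_subH] at hcard
  have hdvd : 1920 ∣ Nat.card C := by
    have h1 := Subgroup.card_dvd_of_le hle
    rwa [hcard, show 32 * 60 = 1920 by norm_num] at h1
  have hle2 : Nat.card C ≤ 2432 := by
    refine le_of_eq_of_le ?_ card_centralizer_le
    have : (Subgroup.centralizer ({zJ} : Set P₀)).map e.toMonoidHom = C := by
      ext y
      rw [Subgroup.mem_map_equiv, Subgroup.mem_centralizer_singleton_iff,
        Subgroup.mem_centralizer_singleton_iff, ← e.injective.eq_iff]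
      simp [zG]
    rw [← this]
    exact Subgroup.card_map_of_injective (f := e.toMonoidHom) e.injective
  refine Subgroup.eq_of_le_of_card_ge hle (le_of_le_of_eq ?_ hcard.symm)
  obtain ⟨m, hm⟩ := hdvd
  rw [hm] at hle2 ⊢
  omega

theorem orderOf_zG : orderOf (zG e) = 2 := by
  haveI : Fact (Nat.Prime 2) := ⟨Nat.prime_two⟩
  refine orderOf_eq_prime ?_ ?_
  · rw [pow_two, zG, ← map_mul, zJ, ← elJ_append, elJ_eq (b := []) (by decide +kernel), elJ_nil, map_one]
  · rw [zG, zJ]
    exact fun h => elJ_ne_one (a := zw) (by decide +kernel) (e.injective (h.trans (map_one e).symm))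

omit [Finite G] in
theorem qn_mul {i j : ℕ} (hi : i < 32) (hj : j < 32) :
    mt qWords qTable i j < 32 ∧ qn e i * qn e j = qn e (mt qWords qTable i j) := by
  have h := (qListed e).mul_nth (i := i) (j := j) (qTable_ok.2.2.2.symm ▸ hi) (qTable_ok.2.2.2.symm ▸ hj)
  exact ⟨qTable_ok.2.2.2 ▸ h.1, h.2⟩

omit [Finite G] in
theorem qn_zero : qn e 0 = 1 := (qListed e).nth_zero

theorem qFacts' : (∀ i, i < 32 → ∀ j, j < 32 → mt qWords qTable i j = mt qWords qTable j i ∨
      mt qWords qTable i j = mt qWords qTable zIdx (mt qWords qTable j i)) ∧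
    (∀ i, i < 32 → invo i = true ∨ mt qWords qTable i i = zIdx) ∧
    (∀ i, i < 32 → i = 0 ∨ i = zIdx ∨ ∃ j, j < 32 ∧ mt qWords qTable i j ≠ mt qWords qTable j i) ∧
    (∀ j, j < 32 → mt qWords qTable zIdx j = mt qWords qTable j zIdx) ∧
    (∀ i, i < 32 → i ≠ 0 → invo i = true → ∀ j, j < 32 → j ≠ 0 → j ≠ i → invo j = true →
      mt qWords qTable i j = mt qWords qTable j i → ∀ l, l < 32 → l ≠ 0 → l ≠ i → l ≠ j →
      l ≠ mt qWords qTable i j → invo l = true → mt qWords qTable i l = mt qWords qTable l i →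
      mt qWords qTable j l ≠ mt qWords qTable l j) := by
  have h := qFacts_ok
  simp only [qFacts, Bool.and_eq_true, List.all_eq_true, List.mem_range, Bool.or_eq_true, List.any_eq_true,
    Bool.not_eq_true'] at h
  obtain ⟨⟨⟨⟨h1, h2⟩, h3⟩, h4⟩, h5⟩ := h
  have eqb : ∀ {a b : ℕ}, Nat.beq a b = true → a = b := fun {a b} hab => Nat.eq_of_beq_eq_true hab
  have neb : ∀ {a b : ℕ}, Nat.beq a b = false → a ≠ b := fun {a b} hab => Nat.ne_of_beq_eq_false hab
  refine ⟨fun i hi j hj => (h1 i hi j hj).imp eqb eqb, fun i hi => (h2 i hi).imp id eqb, fun i hi => ?_,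
    fun j hj => eqb (h4 j hj), fun i hi h0 hinv j hj j0 ji jinv hc l hl l0 li lj lij linv hil hjl => ?_⟩
  · rcases h3 i hi with (h | h) | ⟨j, hj, h⟩
    · exact Or.inl (eqb h)
    · exact Or.inr (Or.inl (eqb h))
    · exact Or.inr (Or.inr ⟨j, hj, neb h⟩)
  · rcases h5 i hi with (h | h) | h
    · exact h0 (eqb h)
    · simp [hinv] at h
    · rcases h j hj with (((h' | h') | h') | h') | h'
      · exact j0 (eqb h')
      · exact ji (eqb h')
      · simp [jinv] at h'
      · exact neb h' hc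
      · rcases h' l hl with (((((h'' | h'') | h'') | h'') | h'') | h'') | h''
        · exact l0 (eqb h'')
        · exact li (eqb h'')
        · exact lj (eqb h'')
        · exact lij (eqb h'')
        · simp [linv] at h''
        · exact neb h'' hil
        · exact neb h'' hjl

theorem subQ_extraspecial : Cfsg.IsExtraspecial 2 (subQ e) := by
  haveI : Fact (Nat.Prime 2) := ⟨Nat.prime_two⟩
  obtain ⟨h1, h2, h3, h4, -⟩ := qFacts'
  have hz : zIdx < 32 := zIdx_ok.2
  refine LargeQ.isExtraspecial_sub (Q := subQ e)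
    (IsPGroup.of_card (n := 5) ((card_subQ e).trans (by norm_num))) le_rfl (orderOf_zG e)
    ((mem_subQ e).2 ⟨_, hz, (qn_zIdx e).symm⟩) ?_ ?_ ?_ ?_
  · intro a ha b hb
    obtain ⟨i, hi, rfl⟩ := (mem_subQ e).1 ha
    obtain ⟨j, hj, rfl⟩ := (mem_subQ e).1 hb
    rcases h1 i hi j hj with h | h
    · left
      rw [(qn_mul e hi hj).2, h, ← (qn_mul e hj hi).2]
      group
    · right
      rw [(qn_mul e hi hj).2, h, ← (qn_mul e hz (qn_mul e hj hi).1).2, ← (qn_mul e hj hi).2, qn_zIdx]
      group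
  · intro a ha
    obtain ⟨i, hi, rfl⟩ := (mem_subQ e).1 ha
    rw [(qn_mul e hi hi).2, ← qn_zIdx]
    refine (h2 i hi).imp (fun h => ?_) fun h => by rw [h]
    rw [Nat.eq_of_beq_eq_true h, qn_zero]
  · intro u hu
    obtain ⟨i, hi, rfl⟩ := (mem_subQ e).1 hu
    constructor
    · intro hc
      rcases h3 i hi with h | h | ⟨j, hj, hne⟩
      · left; rw [h, qn_zero]
      · right; rw [h, qn_zIdx]
      · refine absurd (qn_inj e (qn_mul e hi hj).1 (qn_mul e hj hi).1 ?_) hne
        rw [← (qn_mul e hi hj).2, ← (qn_mul e hj hi).2]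
        exact (hc _ ((mem_subQ e).2 ⟨j, hj, rfl⟩)).symm
    · rintro (h | h) s hs
      · rw [h, mul_one, one_mul]
      · obtain ⟨j, hj, rfl⟩ := (mem_subQ e).1 hs
        rw [h, ← qn_zIdx, (qn_mul e hj hz).2, (qn_mul e hz hj).2, h4 j hj]
  · obtain ⟨i, hi, hi0, hiz⟩ : ∃ i, i < 32 ∧ i ≠ 0 ∧ i ≠ zIdx := ⟨2, by decide, by decide, by decide +kernel⟩
    rcases h3 i hi with h | h | ⟨j, hj, hne⟩
    · exact absurd h hi0
    · exact absurd h hiz
    · refine ⟨_, (mem_subQ e).2 ⟨i, hi, rfl⟩, _, (mem_subQ e).2 ⟨j, hj, rfl⟩, fun h => hne ?_⟩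
      refine qn_inj e (qn_mul e hi hj).1 (qn_mul e hj hi).1 ?_
      rwa [← (qn_mul e hi hj).2, ← (qn_mul e hj hi).2]

theorem elementary_le (S : Set G) (hS : S ⊆ subQ e) (h1 : (1 : G) ∈ S)
    (hmul : ∀ a ∈ S, ∀ b ∈ S, a * b ∈ S) (hcomm : ∀ a ∈ S, ∀ b ∈ S, a * b = b * a)
    (hsq : ∀ a ∈ S, a * a = 1) : Nat.card S ≤ 4 := by
  obtain ⟨-, -, -, -, h5⟩ := qFacts'
  by_contra hlt
  rw [not_le, Nat.card_coe_set_eq] at hlt
  have hfin : S.Finite := Set.toFinite S
  have pick : ∀ T : Finset G, T.card ≤ 4 → ∃ a ∈ S, a ∉ T := fun T hT => by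
    by_contra hno
    push Not at hno
    have : S.ncard ≤ T.card := by
      rw [← Set.ncard_coe_finset]
      exact Set.ncard_le_ncard hno T.finite_toSet
    omega
  classical
  obtain ⟨a, ha, ha'⟩ := pick {1} (by simp)
  obtain ⟨b, hb, hb'⟩ := pick {1, a} (le_trans (Finset.card_insert_le _ _) (by simp))
  obtain ⟨c, hc, hc'⟩ := pick {1, a, b, a * b}
    (le_trans (Finset.card_insert_le _ _) (Nat.succ_le_succ (le_trans (Finset.card_insert_le _ _)
      (Nat.succ_le_succ (le_trans (Finset.card_insert_le _ _) (by simp))))))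
  simp only [Finset.mem_singleton, Finset.mem_insert, not_or] at ha' hb' hc'
  obtain ⟨i, hi, rfl⟩ := (mem_subQ e).1 (hS ha)
  obtain ⟨j, hj, rfl⟩ := (mem_subQ e).1 (hS hb)
  obtain ⟨l, hl, rfl⟩ := (mem_subQ e).1 (hS hc)
  have inv_of : ∀ k, k < 32 → qn e k ∈ S → invo k = true := fun k hk hkS => by
    have : mt qWords qTable k k = 0 := qn_inj e (qn_mul e hk hk).1 (by omega)
      (by rw [← (qn_mul e hk hk).2, hsq _ hkS, qn_zero])
    rw [invo, this]; rfl
  have com : ∀ k m, k < 32 → m < 32 → qn e k ∈ S → qn e m ∈ S →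
      mt qWords qTable k m = mt qWords qTable m k := fun k m hk hm hkS hmS =>
    qn_inj e (qn_mul e hk hm).1 (qn_mul e hm hk).1
      (by rw [← (qn_mul e hk hm).2, ← (qn_mul e hm hk).2, hcomm _ hkS _ hmS])
  refine h5 i hi (fun h => ha' (by rw [h, qn_zero])) (inv_of i hi ha) j hj (fun h => hb'.1 (by rw [h, qn_zero]))
    (fun h => hb'.2 (by rw [h])) (inv_of j hj hb) (com i j hi hj ha hb) l hl (fun h => hc'.1 (by rw [h, qn_zero]))
    (fun h => hc'.2.1 (by rw [h])) (fun h => hc'.2.2.1 (by rw [h]))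
    (fun h => hc'.2.2.2 (by rw [h, ← (qn_mul e hi hj).2])) (inv_of l hl hc) (com i l hi hl ha hc)
    (com j l hj hl hb hc)

theorem one_class (hG : Nat.card G = 50232960) (x : G) (hx : orderOf x = 2) : IsConj (zG e) x := by
  haveI : Fact (Nat.Prime 2) := ⟨Nat.prime_two⟩
  set P := subQ e ⊔ subV e with hP
  have hcard : Nat.card P = 2 ^ 7 := by
    rw [hP, card_sup (disjoint_QV e) (subV_normalizes e), card_subQ, card_subV]
    norm_num
  have hfac : (Nat.card G).factorization 2 = 7 := by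
    rw [hG, show (50232960 : ℕ) = 2 ^ 7 * 392445 by norm_num, Nat.factorization_mul (by norm_num) (by norm_num),
      Nat.factorization_pow, Finsupp.add_apply, Finsupp.smul_apply, Nat.Prime.factorization_self Nat.prime_two,
      Nat.factorization_eq_zero_of_not_dvd (by norm_num)]
    rfl
  let S : Sylow 2 G := Sylow.ofCard P (by rw [hcard, hfac])
  have hzp : IsPGroup 2 ↥(Subgroup.zpowers x) :=
    IsPGroup.of_card (n := 1) (by rw [Nat.card_zpowers, hx, pow_one])
  obtain ⟨T, hT⟩ := hzp.exists_le_sylow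
  obtain ⟨g, hg⟩ := MulAction.exists_smul_eq G T S
  have hmem : g * x * g⁻¹ ∈ P := by
    have : g * x * g⁻¹ ∈ ((g • T : Sylow 2 G) : Subgroup G) :=
      Subgroup.smul_mem_pointwise_smul x (MulAut.conj g) (T : Subgroup G) (hT (Subgroup.mem_zpowers x))
    rw [hg] at this
    exact this
  set y := g * x * g⁻¹ with hy
  have hxy : IsConj x y := isConj_iff.2 ⟨g, rfl⟩
  refine IsConj.trans ?_ hxy.symm
  have hy2 : orderOf y = 2 := by
    rw [hy, ← MulAut.conj_apply, MulEquiv.orderOf_eq, hx]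
  have hmem' : y ∈ ((subQ e ⊔ subV e : Subgroup G) : Set G) := hmem
  rw [Subgroup.coe_mul_of_right_le_normalizer_left (N := subQ e) (H := subV e) (subV_normalizes e)] at hmem'
  obtain ⟨q, hq, v, hv, hqv⟩ := Set.mem_mul.1 hmem'
  obtain ⟨i, hi, rfl⟩ := (mem_subQ e).1 hq
  obtain ⟨j, hj, rfl⟩ := (vListed e).mem_iff.1 hv
  rw [vTable_ok.2.2.2] at hj
  set w := spAt qGens qWords i ++ spAt vGens vWords j with hw
  have hyw : y = e (elJ w) := by rw [← hqv, hw, elJ_append, map_mul, qn, nth_gim, nth_gim]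
  have h := class_ok
  simp only [classOK, List.all_eq_true, List.mem_range, Bool.or_eq_true, ← hw] at h
  rcases h i hi j hj with (h | h) | h
  · refine absurd ?_ (elJ_ne_one h)
    apply e.injective
    rw [map_one, elJ_append, map_mul, ← hyw, ← pow_two, ← hy2, pow_orderOf_eq_one]
  · have : y = 1 := by rw [hyw, elJ_eq h, elJ_nil, map_one]
    rw [this, orderOf_one] at hy2
    omega
  · have h' := congrArg e (elJ_eq h)
    rw [elJ_append, elJ_append, map_mul, map_mul, ← hyw] at h'
    refine isConj_iff.2 ⟨e (elJ ((conjWords.getD i []).getD j [])), ?_⟩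
    rw [mul_inv_eq_iff_eq_mul, ← h']
    rfl

include e in
theorem main (hG : Nat.card G = 50232960) :
    (∀ x y : G, orderOf x = 2 → orderOf y = 2 → IsConj x y) ∧
    ∃ t : G, orderOf t = 2 ∧ ∃ (Q : Subgroup ↥(Subgroup.centralizer ({t} : Set G))) (_ : Q.Normal),
      Cfsg.IsExtraspecial 2 Q ∧ Nat.card Q = 32 ∧
      (∀ E : Subgroup Q, Cfsg.IsElementaryAbelian 2 E → Nat.card E ≤ 2 ^ 2) ∧
      (∃ H : Subgroup ↥(Subgroup.centralizer ({t} : Set G)), Q.IsComplement' H) ∧
      Nonempty (↥(Subgroup.centralizer ({t} : Set G)) ⧸ Q ≃* ↥(alternatingGroup (Fin 5))) := by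
  refine ⟨fun x y hx hy => (one_class e hG x hx).symm.trans (one_class e hG y hy), zG e, orderOf_zG e,
    (subQ e).subgroupOf _, ?_⟩
  have hnorm : Subgroup.centralizer ({zG e} : Set G) ≤ Subgroup.normalizer (subQ e : Set G) :=
    (cent_eq e).symm.le.trans (sup_le Subgroup.le_normalizer (subH_normalizes e))
  have hn : ((subQ e).subgroupOf (Subgroup.centralizer ({zG e} : Set G))).Normal :=
    Subgroup.normal_subgroupOf_of_le_normalizer hnorm
  have eQ := Subgroup.subgroupOfEquivOfLe (subQ_le e)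
  have hcQ : Nat.card ↥((subQ e).subgroupOf (Subgroup.centralizer ({zG e} : Set G))) = 32 :=
    (Nat.card_congr eQ.toEquiv).trans (card_subQ e)
  have eH := Subgroup.subgroupOfEquivOfLe (subH_le e)
  have hcompl : ((subQ e).subgroupOf (Subgroup.centralizer ({zG e} : Set G))).IsComplement'
      ((subH e).subgroupOf (Subgroup.centralizer ({zG e} : Set G))) := by
    refine Subgroup.isComplement'_of_card_mul_and_disjoint ?_ ?_
    · rw [hcQ, Nat.card_congr eH.toEquiv, card_subH, ← cent_eq,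
        card_sup (disjoint_QH e) (subH_normalizes e), card_subQ, card_subH]
    · rw [Subgroup.disjoint_def]
      intro y h1 h2
      exact Subtype.ext (Subgroup.disjoint_def.1 (disjoint_QH e) h1 h2)
  refine ⟨hn, Affine.isExtraspecial_congr eQ.symm (subQ_extraspecial e), hcQ, fun E hE => ?_, ⟨_, hcompl⟩, ?_⟩
  · obtain ⟨hcm, hsq⟩ := hE
    let S : Set G := (fun a : ↥((subQ e).subgroupOf (Subgroup.centralizer ({zG e} : Set G))) => ((a : ↥(Subgroup.centralizer ({zG e} : Set G))) : G)) '' (E : Set _)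
    have hinj : Function.Injective
        (fun a : ↥((subQ e).subgroupOf (Subgroup.centralizer ({zG e} : Set G))) => ((a : ↥(Subgroup.centralizer ({zG e} : Set G))) : G)) :=
      fun a b h => Subtype.ext (Subtype.ext h)
    have hc : Nat.card S = Nat.card E := Nat.card_image_of_injective hinj _
    rw [← hc]
    refine elementary_le e S ?_ ⟨1, one_mem E, rfl⟩ ?_ ?_ ?_
    · rintro _ ⟨a, -, rfl⟩
      exact a.2
    · rintro _ ⟨a, ha, rfl⟩ _ ⟨b, hb, rfl⟩
      exact ⟨a * b, mul_mem ha hb, rfl⟩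
    · rintro _ ⟨a, ha, rfl⟩ _ ⟨b, hb, rfl⟩
      have := hcm.is_comm.comm ⟨a, ha⟩ ⟨b, hb⟩
      exact congrArg (fun u : E => (((u : ↥((subQ e).subgroupOf (Subgroup.centralizer ({zG e} : Set G)))) : ↥(Subgroup.centralizer ({zG e} : Set G))) : G)) this
    · rintro _ ⟨a, ha, rfl⟩
      have := congrArg (fun u : ↥((subQ e).subgroupOf (Subgroup.centralizer ({zG e} : Set G))) => ((u : ↥(Subgroup.centralizer ({zG e} : Set G))) : G)) (hsq a ha)
      simpa [pow_two] using this
  · obtain ⟨f⟩ := exists_subH_iso e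
    exact ⟨hcompl.symm.QuotientMulEquiv.trans (eH.trans f)⟩

end CfsgLib.Spor.JThreeCent
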