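import Cfsg.Agent.Lib.Spor.ActCert.Search
import Cfsg.Agent.Lib.Spor.J3.ActJ.Orbits

/-!
The chain of the tabulated action of the third Janko group with one-letter words.
-/

set_option autoImplicit false
set_option maxRecDepth 100000
set_option maxHeartbeats 0

namespace CfsgLib.Spor.JThreeCent

open CfsgLib.Spor.TC CfsgLib.Spor.ActCert

/-- The chain. -/
noncomputable def lev : List WLevel :=
  CfsgLib.Spor.J3.ActJ.bases.map fun L => ⟨L.base, L.gens.map fun x => [x], L.size, L.pt, L.parent,
    fun i => L.gens.idxOf (L.letter i), L.rank⟩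

end CfsgLib.Spor.JThreeCent
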