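import Cfsg.Agent.Lib.Spor.ActCert.Search

/-!
Conjugating words for the involutions of a Sylow subgroup.
-/

set_option autoImplicit false
set_option maxRecDepth 100000
set_option maxHeartbeats 0

namespace CfsgLib.Spor.JThreeCent

open CfsgLib.Spor.TC CfsgLib.Spor.ActCert

/-- Conjugating words for the elements of the Sylow subgroup. -/
def conjWords : List (List (List ℕ)) := [
  [[], [7, 1, 9, 1, 3, 1], [8, 6, 0, 2, 8, 2, 1], [8, 17, 7, 1, 17, 9, 1]],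
  [[], [1, 9, 1, 3, 1], [8, 0, 8, 2, 1], [6, 8, 7, 0, 20, 8, 20, 0]],
  [[0, 20, 0, 9, 0], [6, 3, 6, 8, 2, 1, 0], [0, 17, 3, 8, 1, 9, 1], [8, 17, 6, 17, 0, 9, 1]],
  [[], [0], [], []],
  [[], [], [], [0, 9, 0]],
  [[], [], [], []],
  [[0, 9, 0, 20, 0], [8, 0, 8, 17, 1, 17, 1], [7, 8, 0, 8, 2, 1], [6, 9, 8, 1, 17, 9, 1]],
  [[], [3, 0], [], []],
  [[], [], [], [20, 0, 9, 0]],
  [[], [], [], []],
  [[], [9, 0], [], []],
  [[], [], [], [8, 20, 8, 0]],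
  [[6, 20, 8, 20, 7, 2, 6], [], [], []],
  [[], [], [20, 0, 20, 0], []],
  [[1, 8, 2, 8, 6, 2, 1], [], [], []],
  [[], [], [8, 20, 8], []],
  [[], [], [], []],
  [[1, 8, 2, 1, 8, 6, 0], [], [], []],
  [[], [], [], []],
  [[], [20, 0], [], []],
  [[], [], [], [9, 0, 9, 0]],
  [[8, 17, 0, 9, 1, 8], [], [], []],
  [[], [], [0, 20, 0], []],
  [[], [], [], []],
  [[], [], [9, 0, 20, 0], []],
  [[9, 8, 17, 0, 9, 1, 8], [], [], []],
  [[6, 0, 8, 1, 2, 8, 1], [], [], []],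
  [[], [], [], []],
  [[], [], [], []],
  [[], [], [], []],
  [[8, 6, 20, 1, 2, 6, 8], [], [], []],
  [[6, 8, 7, 6, 17, 9, 6], [], [], []]]

end CfsgLib.Spor.JThreeCent
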