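import Cfsg.Agent.Lib.Spor.TC.Word
import Mathlib.GroupTheory.OrderOfElement

/-!
Finite subgroups listed as words in generators, with a table of the products with the generators.
-/

set_option autoImplicit false

namespace CfsgLib.Spor.JThreeCent

open CfsgLib.Spor.TC

variable {G : Type*} [Group G] (img : ℕ → G)

/-- An element of the list. -/
def nth (wd : List (List ℕ)) (i : ℕ) : G := ev img (wd.getD i [])

/-- An entry of the table. -/
def next (tb : List (List ℕ)) (i x : ℕ) : ℕ := (tb.getD i []).getD x 0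

/-- The product of two entries. -/
def mt (wd tb : List (List ℕ)) (i j : ℕ) : ℕ := (wd.getD j []).foldl (next tb) i

/-- The structure of a listed subgroup. -/
structure Listed (k : ℕ) (wd tb : List (List ℕ)) : Prop where
  head : wd.getD 0 [] = []
  pos : 0 < wd.length
  lt : ∀ i, i < wd.length → ∀ x ∈ wd.getD i [], x < k
  step : ∀ i, i < wd.length → ∀ x, x < k →
    next tb i x < wd.length ∧ nth img wd i * img x = nth img wd (next tb i x)

variable {img} {k : ℕ} {wd tb : List (List ℕ)}

theorem Listed.nth_zero (h : Listed img k wd tb) : nth img wd 0 = 1 := by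
  rw [nth, h.head]; simp [ev]

theorem Listed.mul_word (h : Listed img k wd tb) :
    ∀ (w : List ℕ), (∀ x ∈ w, x < k) → ∀ i, i < wd.length →
      w.foldl (next tb) i < wd.length ∧ nth img wd i * ev img w = nth img wd (w.foldl (next tb) i)
  | [], _, i, hi => ⟨hi, by simp [ev]⟩
  | x :: w, hw, i, hi => by
    obtain ⟨h1, h2⟩ := h.step i hi x (hw x List.mem_cons_self)
    obtain ⟨h3, h4⟩ := h.mul_word w (fun y hy => hw y (List.mem_cons_of_mem _ hy)) _ h1
    refine ⟨h3, ?_⟩
    rw [ev_cons, ← mul_assoc, h2, h4]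
    rfl

theorem Listed.mul_nth (h : Listed img k wd tb) {i j : ℕ} (hi : i < wd.length) (hj : j < wd.length) :
    mt wd tb i j < wd.length ∧ nth img wd i * nth img wd j = nth img wd (mt wd tb i j) :=
  h.mul_word _ (h.lt j hj) i hi

theorem Listed.mem_iff [Finite G] (h : Listed img k wd tb) {y : G} :
    y ∈ Subgroup.closure (img '' Set.Iio k) ↔ ∃ i, i < wd.length ∧ y = nth img wd i := by
  constructor
  · intro hy
    rw [← Subgroup.mem_toSubmonoid, Subgroup.closure_toSubmonoid_of_finite] at hy
    induction hy using Submonoid.closure_induction_right with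
    | one => exact ⟨0, h.pos, h.nth_zero.symm⟩
    | mul_right a _ b hb ih =>
      obtain ⟨i, hi, rfl⟩ := ih
      obtain ⟨x, hx, rfl⟩ := hb
      exact ⟨_, h.step i hi x hx⟩
  · rintro ⟨i, hi, rfl⟩
    exact ev_mem fun x hx => Subgroup.subset_closure ⟨x, h.lt i hi x hx, rfl⟩

theorem Listed.card [Finite G] (h : Listed img k wd tb)
    (hinj : ∀ i j, i < wd.length → j < wd.length → nth img wd i = nth img wd j → i = j) :
    Nat.card ↥(Subgroup.closure (img '' Set.Iio k)) = wd.length := by
  let f : Fin wd.length → ↥(Subgroup.closure (img '' Set.Iio k)) := fun i =>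
    ⟨nth img wd i, h.mem_iff.2 ⟨i, i.2, rfl⟩⟩
  have hf : Function.Bijective f :=
    ⟨fun i j e => Fin.ext (hinj i j i.2 j.2 (congrArg Subtype.val e)), fun y => by
      obtain ⟨i, hi, e⟩ := h.mem_iff.1 y.2
      exact ⟨⟨i, hi⟩, Subtype.ext e.symm⟩⟩
  rw [← Nat.card_congr (Equiv.ofBijective f hf), Nat.card_fin]

end CfsgLib.Spor.JThreeCent
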