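import Cfsg.Agent.Lib.Spor.JThreeCent.Groups
import Cfsg.Agent.Lib.Spor.JThreeCent.Chain
import Cfsg.Agent.Lib.Spor.JThreeCent.Conj
import Cfsg.Agent.Lib.Spor.JThreeCent.Model

/-!
The checks on the listed subgroups.
-/

set_option autoImplicit false
set_option maxRecDepth 100000
set_option maxHeartbeats 0

namespace CfsgLib.Spor.JThreeCent

open CfsgLib.Spor.TC CfsgLib.Spor.ActCert

/-- A word in generators given by words. -/
def spell (gw : List (List ℕ)) : List ℕ → List ℕ
  | [] => []
  | x :: w => gw.getD x [] ++ spell gw w

/-- The letters of a listed element. -/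
def spAt (gw wd : List (List ℕ)) (i : ℕ) : List ℕ := spell gw (wd.getD i [])

/-- The table of a listed subgroup holds. -/
noncomputable def tableOK (gw wd tb : List (List ℕ)) : Bool :=
  (List.range wd.length).all fun i =>
    ((wd.getD i []).all fun x => Nat.blt x gw.length) && (List.range gw.length).all fun x =>
      Nat.blt (next tb i x) wd.length &&
        sameW CfsgLib.Spor.J3.ActJ.act lev (spAt gw wd i ++ gw.getD x []) (spAt gw wd (next tb i x))

theorem qTable_ok : tableOK qGens qWords qTable = true ∧ qWords.getD 0 [] = [] ∧ qGens.length = 5 ∧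
    qWords.length = 32 := by decide +kernel

theorem hTable_ok : tableOK hGens hWords hTable = true ∧ hWords.getD 0 [] = [] ∧ hGens.length = 2 ∧
    hWords.length = 60 := by decide +kernel

theorem vTable_ok : tableOK vGens vWords vTable = true ∧ vWords.getD 0 [] = [] ∧ vGens.length = 2 ∧
    vWords.length = 4 := by decide +kernel

theorem qDistinct : ((List.range 32).all fun i => (List.range i).all fun j =>
    diffW CfsgLib.Spor.J3.ActJ.act lev (spAt qGens qWords i) (spAt qGens qWords j)) = true := by decide +kernel

theorem hDistinct : ((List.range 59).all fun i =>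
    movesW CfsgLib.Spor.J3.ActJ.act lev (spAt hGens hWords (i + 1))) = true := by decide +kernel

theorem vDistinct : ((List.range 4).all fun i => (List.range i).all fun j =>
    diffW CfsgLib.Spor.J3.ActJ.act lev (spAt vGens vWords i) (spAt vGens vWords j)) = true := by decide +kernel

theorem qh_disjoint : ((List.range 59).all fun i => (List.range 32).all fun j =>
    diffW CfsgLib.Spor.J3.ActJ.act lev (spAt hGens hWords (i + 1)) (spAt qGens qWords j)) = true := by decide +kernel

theorem qv_disjoint : ((List.range 3).all fun i => (List.range 32).all fun j =>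
    diffW CfsgLib.Spor.J3.ActJ.act lev (spAt vGens vWords (i + 1)) (spAt qGens qWords j)) = true := by decide +kernel

theorem comm_ok : ((qGens ++ hGens ++ vGens).all fun g =>
    sameW CfsgLib.Spor.J3.ActJ.act lev (g ++ [2]) ([2] ++ g)) = true := by decide +kernel

theorem conj_ok : ((List.range 3).all fun t => (List.range 32).all fun i =>
    Nat.blt ((qConj.getD t []).getD i 0) 32 &&
    sameW CfsgLib.Spor.J3.ActJ.act lev ((hGens ++ vGens.drop 1).getD t [] ++ spAt qGens qWords i)
      (spAt qGens qWords ((qConj.getD t []).getD i 0) ++ (hGens ++ vGens.drop 1).getD t [])) = true := by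
  decide +kernel

theorem vGens_head : vGens.getD 0 [] = hGens.getD 0 [] := by decide +kernel

theorem zIdx_ok : sameW CfsgLib.Spor.J3.ActJ.act lev (spAt qGens qWords zIdx) [2] = true ∧ zIdx < 32 := by
  decide +kernel

/-- Conjugating words for the involutions of the Sylow subgroup. -/
noncomputable def classOK : Bool :=
  (List.range 32).all fun i => (List.range 4).all fun j =>
    let w := spAt qGens qWords i ++ spAt vGens vWords j
    let g := (conjWords.getD i []).getD j []
    movesW CfsgLib.Spor.J3.ActJ.act lev (w ++ w) || sameW CfsgLib.Spor.J3.ActJ.act lev w [] ||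
      sameW CfsgLib.Spor.J3.ActJ.act lev (g ++ [2]) (w ++ g)

theorem class_ok : classOK = true := by decide +kernel

/-- The square of an entry is trivial. -/
noncomputable def invo (i : ℕ) : Bool := Nat.beq (mt qWords qTable i i) 0

/-- The facts on the table of the extraspecial group. -/
noncomputable def qFacts : Bool :=
  ((List.range 32).all fun i => (List.range 32).all fun j =>
    Nat.beq (mt qWords qTable i j) (mt qWords qTable j i) ||
      Nat.beq (mt qWords qTable i j) (mt qWords qTable zIdx (mt qWords qTable j i))) &&
  ((List.range 32).all fun i => invo i || Nat.beq (mt qWords qTable i i) zIdx) &&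
  ((List.range 32).all fun i => Nat.beq i 0 || Nat.beq i zIdx ||
    (List.range 32).any fun j => !Nat.beq (mt qWords qTable i j) (mt qWords qTable j i)) &&
  ((List.range 32).all fun j =>
    Nat.beq (mt qWords qTable zIdx j) (mt qWords qTable j zIdx)) &&
  ((List.range 32).all fun i => Nat.beq i 0 || !invo i || (List.range 32).all fun j =>
    Nat.beq j 0 || Nat.beq j i || !invo j || !Nat.beq (mt qWords qTable i j) (mt qWords qTable j i) ||
      (List.range 32).all fun l => Nat.beq l 0 || Nat.beq l i || Nat.beq l j ||
        Nat.beq l (mt qWords qTable i j) || !invo l ||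
        !Nat.beq (mt qWords qTable i l) (mt qWords qTable l i) ||
        !Nat.beq (mt qWords qTable j l) (mt qWords qTable l j))

theorem qFacts_ok : qFacts = true := by decide +kernel

end CfsgLib.Spor.JThreeCent
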