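import Cfsg.Agent.Lib.Spor.JThreeCent.Data
import Cfsg.Agent.Lib.Spor.JThreeCent.Chain

/-!
The search.
-/

set_option autoImplicit false
set_option maxRecDepth 100000
set_option maxHeartbeats 0

namespace CfsgLib.Spor.JThreeCent

open CfsgLib.Spor.TC CfsgLib.Spor.ActCert

theorem modes_ok : modesOK CfsgLib.Spor.J3.ActJ.act zw fixPts lev modes = true := by decide +kernel

theorem search_ok : searchOK CfsgLib.Spor.J3.ActJ.act zw fixPts allowed (lev.drop 1) (modes.drop 1) [0] [0] [] kids = true := by
  decide +kernel

end CfsgLib.Spor.JThreeCent
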