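import Cfsg.Agent.Lib.Spor.JThreeCent.CheckChain
import Cfsg.Agent.Lib.Spor.JThreeCent.CheckSearch
import Cfsg.Agent.Lib.Spor.JThreeCent.CheckGroups
import Cfsg.Agent.Lib.Spor.J3.Order

/-!
The centralizer of an involution of the presented third Janko group is small.
-/

set_option autoImplicit false
set_option maxRecDepth 100000

namespace CfsgLib.Spor.JThreeCent

open CfsgLib.Spor.TC CfsgLib.Spor.ActCert CfsgLib.Spor.PermCert

local notation "JA" => CfsgLib.Spor.J3.ActJ.act
local notation "P₀" => Pres (Act.k CfsgLib.Spor.J3.ActJ.act) CfsgLib.Spor.J3.relsJ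

instance neZero_points : NeZero (Act.n CfsgLib.Spor.J3.ActJ.act) := ⟨Nat.succ_ne_zero 6155⟩

theorem exact_lev : Exact J3.ActJ.valid lev :=
  ⟨chain_ok.1, J3.rho_injective, by rw [J3.card_eq, chain_ok.2], by rw [chain_ok.2]; norm_num⟩

/-- The element of a word. -/
noncomputable def elJ (w : List ℕ) : P₀ := el JA J3.relsJ w

/-- The involution. -/
noncomputable def zJ : P₀ := elJ zw

theorem elJ_eq {a b : List ℕ} (h : sameW JA lev a b = true) : elJ a = elJ b := el_eq exact_lev h

theorem elJ_ne {a b : List ℕ} (h : diffW JA lev a b = true) : elJ a ≠ elJ b := el_ne exact_lev h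

theorem elJ_ne_one {a : List ℕ} (h : movesW JA lev a = true) : elJ a ≠ 1 := el_ne_one exact_lev h

theorem elJ_append (a b : List ℕ) : elJ (a ++ b) = elJ a * elJ b := el_append a b

theorem elJ_nil : elJ [] = 1 := el_nil

theorem elJ_spell (gw : List (List ℕ)) : ∀ w : List ℕ, elJ (spell gw w) = ev (fun x => elJ (gw.getD x [])) w
  | [] => by rw [spell, elJ_nil]; simp [ev]
  | x :: w => by rw [spell, elJ_append, elJ_spell gw w, ev_cons]

theorem small_facts : ((List.range (Act.n JA)).all fun c => !Nat.beq (Act.wact JA zw c) c || fixPts.contains c) = true ∧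
    Act.wact JA zw 0 = 0 ∧ fixPts.length = 76 ∧ allowed.length = 32 ∧
    (lev.take 1).map WLevel.base = [0] ∧ (zw.all fun a => Nat.blt a (Act.K JA)) = true := by
  decide +kernel

/-- The image of the first base point. -/
noncomputable def img0 (g : P₀) : ℕ := (J3.ActJ.valid.rho g (pnt (Act.n JA) 0)).1

theorem allowed_of_fix {g : P₀} (hg : g * zJ = zJ * g) (h0 : img0 g = 0) :
    ∃ a ∈ allowed, g = elJ a := by
  have hb : (lev.take 1).map WLevel.base = [0] := small_facts.2.2.2.2.1
  refine search_spec exact_lev modes_ok hg (lev.drop 1) (modes.drop 1) 1 rfl rfl [] [0] kids ?_ (by simp) ?_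
    (hb ▸ search_ok)
  · have : (lev.take 1).map (fun L : WLevel => (J3.ActJ.valid.rho g (pnt (Act.n JA) L.base)).1) =
        ((lev.take 1).map WLevel.base).map fun b => (J3.ActJ.valid.rho g (pnt (Act.n JA) b)).1 := by
      rw [List.map_map]; rfl
    rw [this, hb]
    exact congrArg (fun v => [v]) h0.symm
  · intro L hL
    have : L.base ∈ (lev.take 1).map WLevel.base := List.mem_map_of_mem hL
    rw [hb, List.mem_singleton] at this
    rw [this]
    exact h0.symm

theorem img0_mem {g : P₀} (hg : g * zJ = zJ * g) : img0 g ∈ fixPts := by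
  obtain ⟨hl, hz0, -, -, -, hz⟩ := small_facts
  simp only [List.all_eq_true, List.mem_range, Bool.or_eq_true, Bool.not_eq_true', List.contains_eq_mem,
    decide_eq_true_eq] at hl hz
  have hz' : ∀ a ∈ zw, a < Act.K JA := fun a ha => Nat.le_of_ble_eq_true (hz a ha)
  have h0 : (0 : ℕ) < Act.n JA := Nat.succ_pos 6155
  have h1 : J3.ActJ.valid.rho zJ (J3.ActJ.valid.rho g (pnt _ 0)) = J3.ActJ.valid.rho g (pnt _ 0) := by
    rw [← Equiv.Perm.mul_apply, ← map_mul, ← hg, map_mul, Equiv.Perm.mul_apply]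
    exact congrArg _ (Fin.ext (by rw [zJ, elJ, rho_el J3.ActJ.valid hz', pnt_val h0, hz0]))
  have h2 := congrArg Fin.val h1
  rw [zJ, elJ, rho_el J3.ActJ.valid hz'] at h2
  refine (hl _ (J3.ActJ.valid.rho g (pnt _ 0)).2).resolve_left ?_
  rw [Bool.not_eq_false, h2]
  exact Nat.beq_refl _

/-- The centralizer has at most 2432 elements. -/
theorem card_centralizer_le : Nat.card ↥(Subgroup.centralizer ({zJ} : Set P₀)) ≤ 2432 := by
  classical
  haveI : Finite P₀ := Nat.finite_of_card_ne_zero (ne_of_eq_of_ne J3.card_eq (by decide))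
  set C := Subgroup.centralizer ({zJ} : Set P₀)
  have hcom : ∀ g : C, (g : P₀) * zJ = zJ * g := fun g => Subgroup.mem_centralizer_singleton_iff.1 g.2
  let r : ℕ → C := fun c => if h : ∃ g : C, img0 g = c then h.choose else 1
  have hr : ∀ g : C, img0 (r (img0 g) : C) = img0 g := fun g => by
    have h : ∃ g' : C, img0 g' = img0 g := ⟨g, rfl⟩
    simp only [r, dif_pos h]
    exact h.choose_spec
  have key : ∀ g : C, ∃ p : Fin fixPts.length × Fin allowed.length,
      fixPts[p.1] = img0 g ∧ ((r (img0 g))⁻¹ * g : C).1 = elJ allowed[p.2] := by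
    intro g
    obtain ⟨i, hi, e1⟩ := List.getElem_of_mem (img0_mem (hcom g))
    have e : J3.ActJ.valid.rho (r (img0 g) : P₀) (pnt _ 0) = J3.ActJ.valid.rho (g : P₀) (pnt _ 0) :=
      Fin.ext (hr g)
    obtain ⟨a, ha, e2⟩ := allowed_of_fix (hcom ((r (img0 g))⁻¹ * g)) (by
      show (J3.ActJ.valid.rho ((r (img0 g) : P₀)⁻¹ * (g : P₀)) (pnt _ 0)).1 = 0
      rw [map_mul, map_inv, Equiv.Perm.mul_apply, ← e, Equiv.Perm.inv_def, Equiv.symm_apply_apply]
      exact pnt_val (Nat.succ_pos 6155))
    obtain ⟨j, hj, rfl⟩ := List.getElem_of_mem ha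
    exact ⟨(⟨i, hi⟩, ⟨j, hj⟩), e1, e2⟩
  choose f hf1 hf2 using key
  have hinj : Function.Injective f := fun a b e => by
    have h1 : img0 (a : P₀) = img0 (b : P₀) := by rw [← hf1 a, ← hf1 b, e]
    have h2 : ((r (img0 a))⁻¹ * a : C).1 = ((r (img0 b))⁻¹ * b : C).1 := by rw [hf2 a, hf2 b, e]
    rw [h1] at h2
    exact mul_left_cancel (Subtype.ext h2)
  calc Nat.card C ≤ Nat.card (Fin fixPts.length × Fin allowed.length) := Nat.card_le_card_of_injective f hinj
    _ = 2432 := by simp [small_facts.2.2.1, small_facts.2.2.2.1]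

end CfsgLib.Spor.JThreeCent
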