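import Cfsg.Agent.Lib.Spor.JThreeCent.Chain

/-!
The orbits of the chain.
-/

set_option autoImplicit false
set_option maxRecDepth 100000
set_option maxHeartbeats 0

namespace CfsgLib.Spor.JThreeCent

open CfsgLib.Spor.TC CfsgLib.Spor.ActCert

theorem chain_ok : chainW CfsgLib.Spor.J3.ActJ.act [] lev = true ∧ chainProd lev = 50232960 := by decide +kernel

end CfsgLib.Spor.JThreeCent
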