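import Cfsg.Agent.Lib.Spor.ActCert.Search

/-!
Fixed points of an involution of the third Janko group and the search for its centralizer.
-/

set_option autoImplicit false
set_option maxRecDepth 100000
set_option maxHeartbeats 0

namespace CfsgLib.Spor.JThreeCent

open CfsgLib.Spor.TC CfsgLib.Spor.ActCert

/-- The involution. -/
def zw : List ℕ := [2]

/-- Its fixed points. -/
def fixPts : List ℕ := [0, 1, 2, 53, 92, 106, 174, 187, 425, 535, 696, 789, 792, 960, 963, 1145, 1189, 1226, 1413, 1685, 1832, 1839, 1886, 1945, 1981, 2108, 2109, 2281, 2405, 2928, 2983, 3041, 3056, 3139, 3182, 3357, 3495, 3589, 3630, 3754, 3917, 4262, 4319, 4398, 4479, 4482, 4519, 4590, 4641, 4650, 4912, 4950, 5017, 5068, 5075, 5190, 5313, 5674, 5700, 5720, 5736, 5751, 5763, 5787, 5847, 5861, 5910, 5959, 6010, 6013, 6110, 6115, 6116, 6122, 6127, 6135]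

/-- The elements of its centralizer fixing the first point. -/
def allowed : List (List ℕ) := [[], [2], [7], [17], [20], [2, 20], [7, 2], [7, 20], [17, 2], [17, 7], [17, 20], [20, 7], 
  [0, 17, 0], [7, 2, 20], [17, 2, 20], [17, 7, 2], [20, 7, 2], [0, 2, 17, 0], [0, 17, 0, 2], 
  [0, 17, 0, 7], [0, 17, 0, 17], [0, 17, 0, 20], [20, 0, 17, 0], [0, 2, 17, 0, 17], 
  [0, 2, 17, 0, 20], [0, 17, 0, 7, 20], [0, 17, 0, 17, 2], [0, 17, 0, 17, 7], 
  [0, 17, 0, 17, 20], [0, 17, 0, 20, 7], [20, 0, 17, 0, 7], [20, 0, 17, 0, 17]]

/-- What restricts the images of the base. -/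
def modes : List Mode := [.fixd, .fixd, .free, .fixd, .det 2 1]

/-- The branches of the search. -/
def kids : List Branch := [
  .out 0,
  .sub [] [.sub [] [.out 0, .out 1, .sub [] [.done 0], .sub [20] [.done 4], .out 92, .out 106, .out 174, .out 187, .out 425, .out 535, .out 696, .out 789, .out 792, .out 960, .out 963, .out 1145, .out 1189, .out 1226, .out 1413, .out 1685, .out 1832, .out 1839, .out 1886, .out 1945, .out 1981, .out 2108, .out 2109, .out 2281, .out 2405, .out 2928, .out 2983, .out 3041, .out 3056, .out 3139, .out 3182, .out 3357, .out 3495, .out 3589, .out 3630, .out 3754, .out 3917, .out 4262, .out 4319, .out 4398, .out 4479, .out 4482, .out 4519, .out 4590, .out 4641, .out 4650, .out 4912, .out 4950, .out 5017, .out 5068, .out 5075, .out 5190, .out 5313, .out 5674, .out 5700, .out 5720, .out 5736, .out 5751, .out 5763, .out 5787, .out 5847, .out 5861, .out 5910, .out 5959, .out 6010, .out 6013, .out 6110, .out 6115, .out 6116, .out 6122, .out 6127, .out 6135], .sub [15] [.out 0, .out 1, .sub [] [.done 1], .sub [20] [.done 5], .out 92, .out 106, .out 174, .out 187,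 .out 425, .out 535, .out 696, .out 789, .out 792, .out 960, .out 963, .out 1145, .out 1189, .out 1226, .out 1413, .out 1685, .out 1832, .out 1839, .out 1886, .out 1945, .out 1981, .out 2108, .out 2109, .out 2281, .out 2405, .out 2928, .out 2983, .out 3041, .out 3056, .out 3139, .out 3182, .out 3357, .out 3495, .out 3589, .out 3630, .out 3754, .out 3917, .out 4262, .out 4319, .out 4398, .out 4479, .out 4482, .out 4519, .out 4590, .out 4641, .out 4650, .out 4912, .out 4950, .out 5017, .out 5068, .out 5075, .out 5190, .out 5313, .out 5674, .out 5700, .out 5720, .out 5736, .out 5751, .out 5763, .out 5787, .out 5847, .out 5861, .out 5910, .out 5959, .out 6010, .out 6013, .out 6110, .out 6115, .out 6116, .out 6122, .out 6127, .out 6135], .sub [17] [.out 0, .out 1, .sub [] [.done 3], .sub [20] [.done 10], .out 92, .out 187, .out 174, .out 106, .out 4650, .out 4519, .out 1189, .out 3182, .out 5674, .out 4950, .out 4590, .out 1981, .out 696, .out 3754, .out 4398, .out 3495, .out 1886, .out 1839, .out 1832, .out 3630, .out 1145, .out 2405, .out 6013, .out 5313, .out 2108, .out 2928, .out 3056,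 .out 4912, .out 2983, .out 5068, .out 789, .out 6010, .out 1685, .out 3917, .out 1945, .out 1226, .out 3589, .out 5751, .out 4641, .out 1413, .out 5910, .out 6110, .out 535, .out 963, .out 4319, .out 425, .out 3041, .out 960, .out 6135, .out 3139, .out 5190, .out 5075, .out 2281, .out 792, .out 5700, .out 5763, .out 6127, .out 4262, .out 5720, .out 5787, .out 5861, .out 5847, .out 4479, .out 6122, .out 3357, .out 2109, .out 4482, .out 6115, .out 6116, .out 5959, .out 5736, .out 5017], .sub [18] [.out 0, .out 1, .sub [20] [.done 6], .sub [] [.done 13], .out 174, .out 696, .out 92, .out 1189, .out 3357, .out 1685, .out 187, .out 2109, .out 2405, .out 4590, .out 960, .out 4641, .out 106, .out 1413, .out 3754, .out 4519, .out 5736, .out 2928, .out 6127, .out 5313, .out 4319, .out 792, .out 3182, .out 1945, .out 5674, .out 1839, .out 6122, .out 5017, .out 5959, .out 3917, .out 6013, .out 4650, .out 535, .out 3139, .out 2281, .out 4398, .out 5068, .out 5763, .out 1145, .out 1226, .out 5847, .out 5075, .out 3495, .out 4950, .out 1981, .out 6010, .out 6135, .out 963, .out 4912, .out 3589,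 .out 6110, .out 4482, .out 3630, .out 2108, .out 6116, .out 4262, .out 1886, .out 5720, .out 5751, .out 5787, .out 5910, .out 4479, .out 5861, .out 2983, .out 425, .out 789, .out 5190, .out 6115, .out 5700, .out 3056, .out 1832, .out 3041], .sub [17, 15] [.out 0, .out 1, .sub [] [.done 8], .sub [20] [.done 14], .out 92, .out 187, .out 174, .out 106, .out 4650, .out 4519, .out 1189, .out 3182, .out 5674, .out 4950, .out 4590, .out 1981, .out 696, .out 3754, .out 4398, .out 3495, .out 1886, .out 1839, .out 1832, .out 3630, .out 1145, .out 2405, .out 6013, .out 5313, .out 2108, .out 2928, .out 3056, .out 4912, .out 2983, .out 5068, .out 789, .out 6010, .out 1685, .out 3917, .out 1945, .out 1226, .out 3589, .out 5751, .out 4641, .out 1413, .out 5910, .out 6110, .out 535, .out 963, .out 4319, .out 425, .out 3041, .out 960, .out 6135, .out 3139, .out 5190, .out 5075, .out 2281, .out 792, .out 5700, .out 5763, .out 6127, .out 4262, .out 5720, .out 5787, .out 5861, .out 5847, .out 4479, .out 6122, .out 3357, .out 2109, .out 4482, .out 6115, .out 6116, .out 5959, .out 5736, .out 5017], .sub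 [18, 15] [.out 0, .out 1, .sub [20] [.done 2], .sub [] [.done 7], .out 174, .out 696, .out 92, .out 1189, .out 3357, .out 1685, .out 187, .out 2109, .out 2405, .out 4590, .out 960, .out 4641, .out 106, .out 1413, .out 3754, .out 4519, .out 5736, .out 2928, .out 6127, .out 5313, .out 4319, .out 792, .out 3182, .out 1945, .out 5674, .out 1839, .out 6122, .out 5017, .out 5959, .out 3917, .out 6013, .out 4650, .out 535, .out 3139, .out 2281, .out 4398, .out 5068, .out 5763, .out 1145, .out 1226, .out 5847, .out 5075, .out 3495, .out 4950, .out 1981, .out 6010, .out 6135, .out 963, .out 4912, .out 3589, .out 6110, .out 4482, .out 3630, .out 2108, .out 6116, .out 4262, .out 1886, .out 5720, .out 5751, .out 5787, .out 5910, .out 4479, .out 5861, .out 2983, .out 425, .out 789, .out 5190, .out 6115, .out 5700, .out 3056, .out 1832, .out 3041], .sub [18, 17] [.out 0, .out 1, .sub [20] [.done 15], .sub [] [.done 11], .out 174, .out 1189, .out 92, .out 696, .out 6010, .out 3495, .out 106, .out 6013, .out 2108, .out 963, .out 4950, .out 4319, .out 187, .out 4398, .out 1226, .out 535, .out 6127,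 .out 2928, .out 5736, .out 2281, .out 4641, .out 5674, .out 789, .out 3630, .out 792, .out 1839, .out 5959, .out 6135, .out 6122, .out 3589, .out 2109, .out 425, .out 4519, .out 5068, .out 5313, .out 1413, .out 3139, .out 5720, .out 1981, .out 3754, .out 5861, .out 5190, .out 1685, .out 960, .out 1145, .out 3357, .out 5017, .out 4590, .out 3041, .out 3917, .out 4482, .out 6110, .out 1945, .out 2405, .out 6116, .out 5751, .out 1832, .out 5763, .out 4262, .out 5787, .out 4479, .out 5910, .out 5847, .out 3056, .out 4650, .out 3182, .out 5075, .out 6115, .out 5700, .out 2983, .out 1886, .out 4912], .sub [20, 18] [.out 0, .out 1, .sub [] [.done 9], .sub [20] [.done 16], .out 92, .out 1189, .out 174, .out 696, .out 5674, .out 4590, .out 187, .out 4398, .out 4650, .out 1685, .out 4519, .out 4319, .out 106, .out 6013, .out 3182, .out 960, .out 1832, .out 2928, .out 1886, .out 5068, .out 4641, .out 6010, .out 3754, .out 3589, .out 3357, .out 1839, .out 2983, .out 6110, .out 3056, .out 3630, .out 1413, .out 2405, .out 4950, .out 2281, .out 3139, .out 2109, .out 5313, .out 5847, .out 1145, .out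 789, .out 5763, .out 4912, .out 963, .out 535, .out 1981, .out 792, .out 4482, .out 3495, .out 5075, .out 1945, .out 5017, .out 6135, .out 3917, .out 425, .out 6116, .out 5910, .out 6127, .out 5861, .out 4479, .out 5787, .out 4262, .out 5751, .out 5720, .out 6122, .out 2108, .out 1226, .out 3041, .out 6115, .out 5700, .out 5959, .out 5736, .out 5190], .sub [21, 18] [.out 0, .out 1, .sub [20] [.done 17], .sub [] [.done 24], .out 174, .out 21, .out 92, .out 42, .out 1217, .out 5284, .out 1136, .out 2093, .out 1829, .out 5531, .out 3872, .out 4039, .out 1955, .out 2088, .out 2966, .out 5613, .out 1064, .out 5700, .out 1790, .out 5652, .out 2659, .out 1215, .out 2978, .out 5285, .out 2087, .out 6116, .out 1842, .out 3714, .out 1663, .out 5964, .out 1218, .out 2964, .out 5965, .out 5745, .out 4361, .out 2130, .out 5269, .out 1778, .out 248, .out 1818, .out 5163, .out 4749, .out 5449, .out 5283, .out 130, .out 678, .out 5162, .out 5605, .out 5848, .out 5064, .out 2913, .out 4340, .out 5802, .out 1054, .out 5787, .out 3278, .out 1058, .out 2912, .out 2053, .out 1839, .out 4754, .out 3283,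 .out 5719, .out 1059, .out 2348, .out 1826, .out 3279, .out 2928, .out 6115, .out 1091, .out 585, .out 4755], .sub [21, 18, 15] [.out 0, .out 1, .sub [20] [.done 27], .sub [] [.done 30], .out 174, .out 42, .out 92, .out 21, .out 678, .out 5449, .out 1955, .out 1218, .out 1054, .out 5605, .out 5283, .out 2659, .out 1136, .out 2130, .out 1818, .out 5965, .out 1790, .out 5700, .out 1064, .out 4361, .out 4039, .out 2087, .out 1826, .out 5802, .out 1215, .out 6116, .out 1663, .out 5162, .out 1842, .out 5064, .out 2093, .out 2348, .out 5613, .out 5269, .out 5652, .out 2088, .out 5745, .out 2912, .out 130, .out 2966, .out 5719, .out 3279, .out 5284, .out 3872, .out 248, .out 1217, .out 3714, .out 5531, .out 4755, .out 5964, .out 4340, .out 2913, .out 5285, .out 1829, .out 5787, .out 2053, .out 585, .out 1778, .out 3278, .out 1839, .out 3283, .out 4754, .out 5163, .out 1091, .out 2964, .out 2978, .out 4749, .out 2928, .out 6115, .out 1059, .out 1058, .out 5848], .sub [21, 18, 17] [.out 0, .out 1, .sub [20] [.done 19], .sub [] [.done 25], .out 174, .out 21, .out 92, .out 42, .out 1217, .out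 5284, .out 1136, .out 2093, .out 1829, .out 5531, .out 3872, .out 4039, .out 1955, .out 2088, .out 2966, .out 5613, .out 1064, .out 5700, .out 1790, .out 5652, .out 2659, .out 1215, .out 2978, .out 5285, .out 2087, .out 6116, .out 1842, .out 3714, .out 1663, .out 5964, .out 1218, .out 2964, .out 5965, .out 5745, .out 4361, .out 2130, .out 5269, .out 1778, .out 248, .out 1818, .out 5163, .out 4749, .out 5449, .out 5283, .out 130, .out 678, .out 5162, .out 5605, .out 5848, .out 5064, .out 2913, .out 4340, .out 5802, .out 1054, .out 5787, .out 3278, .out 1058, .out 2912, .out 2053, .out 1839, .out 4754, .out 3283, .out 5719, .out 1059, .out 2348, .out 1826, .out 3279, .out 2928, .out 6115, .out 1091, .out 585, .out 4755], .sub [21, 20, 18] [.out 0, .out 1, .sub [] [.done 23], .sub [20] [.done 29], .out 92, .out 42, .out 174, .out 21, .out 2087, .out 5531, .out 1136, .out 2130, .out 2964, .out 5284, .out 5613, .out 2659, .out 1955, .out 1218, .out 2978, .out 3872, .out 585, .out 5700, .out 1058, .out 5269, .out 4039, .out 678, .out 2966, .out 5064, .out 1217, .out 6116, .out 1059, .out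 2913, .out 1091, .out 5802, .out 2088, .out 1829, .out 5283, .out 4361, .out 5745, .out 2093, .out 5652, .out 5163, .out 248, .out 1826, .out 1778, .out 5848, .out 5605, .out 5965, .out 130, .out 1215, .out 4340, .out 5449, .out 4749, .out 5285, .out 3714, .out 5162, .out 5964, .out 2348, .out 5787, .out 4754, .out 1790, .out 5719, .out 3283, .out 1839, .out 3278, .out 2053, .out 2912, .out 1842, .out 1054, .out 1818, .out 4755, .out 2928, .out 6115, .out 1663, .out 1064, .out 3279], .sub [18, 21, 18] [.out 0, .out 1, .sub [] [.done 20], .sub [20] [.done 28], .out 92, .out 1136, .out 174, .out 1955, .out 2964, .out 5613, .out 42, .out 2978, .out 2087, .out 5283, .out 5531, .out 130, .out 21, .out 2966, .out 2130, .out 5449, .out 1058, .out 6116, .out 585, .out 5802, .out 248, .out 1829, .out 1218, .out 5652, .out 1054, .out 5700, .out 1091, .out 5848, .out 1059, .out 5269, .out 1826, .out 678, .out 5284, .out 5964, .out 5285, .out 1818, .out 5064, .out 2053, .out 4039, .out 2088, .out 4754, .out 2913, .out 5965, .out 5605, .out 2659, .out 2348, .out 4755, .out 3872, .out 5162, .out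 5745, .out 3279, .out 4749, .out 4361, .out 1215, .out 6115, .out 1778, .out 1790, .out 3278, .out 2912, .out 1839, .out 5719, .out 5163, .out 3283, .out 1842, .out 1217, .out 2093, .out 4340, .out 2928, .out 5787, .out 1663, .out 1064, .out 3714], .sub [21, 21, 18] [.out 0, .out 1, .sub [20] [.done 12], .sub [] [.done 21], .out 174, .out 1345, .out 92, .out 752, .out 3993, .out 1331, .out 12, .out 3992, .out 860, .out 3160, .out 3599, .out 115, .out 24, .out 2565, .out 861, .out 3159, .out 4442, .out 6115, .out 5701, .out 3162, .out 215, .out 2681, .out 881, .out 3608, .out 3931, .out 5787, .out 5142, .out 2074, .out 4426, .out 5803, .out 2616, .out 880, .out 1962, .out 3602, .out 4627, .out 3930, .out 3597, .out 1777, .out 75, .out 1524, .out 2071, .out 3645, .out 2292, .out 2283, .out 139, .out 3999, .out 1206, .out 4624, .out 4727, .out 4628, .out 671, .out 1209, .out 2290, .out 471, .out 1839, .out 5838, .out 1830, .out 1197, .out 5114, .out 6116, .out 2791, .out 4198, .out 2052, .out 1056, .out 483, .out 1561, .out 4726, .out 5700, .out 2928, .out 1373, .out 2339, .out 3254],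 .sub [18, 21, 18, 15] [.out 0, .out 1, .sub [] [.done 18], .sub [20] [.done 22], .out 92, .out 1955, .out 174, .out 1136, .out 2348, .out 5965, .out 21, .out 1826, .out 1215, .out 3872, .out 5605, .out 248, .out 42, .out 1818, .out 2088, .out 5284, .out 585, .out 6116, .out 1058, .out 5285, .out 130, .out 1054, .out 2093, .out 4361, .out 1829, .out 5700, .out 1059, .out 4755, .out 1091, .out 5745, .out 2978, .out 1217, .out 5449, .out 5064, .out 5802, .out 2966, .out 5964, .out 3278, .out 2659, .out 2130, .out 3283, .out 4340, .out 5613, .out 5531, .out 4039, .out 2964, .out 5848, .out 5283, .out 3714, .out 5269, .out 4749, .out 3279, .out 5652, .out 2087, .out 6115, .out 2912, .out 1064, .out 2053, .out 1778, .out 1839, .out 5163, .out 5719, .out 4754, .out 1663, .out 678, .out 1218, .out 2913, .out 2928, .out 5787, .out 1842, .out 1790, .out 5162], .sub [18, 21, 18, 17] [.out 0, .out 1, .sub [] [.done 26], .sub [20] [.done 31], .out 92, .out 1136, .out 174, .out 1955, .out 2964, .out 5613, .out 42, .out 2978, .out 2087, .out 5283, .out 5531, .out 130, .out 21, .out 2966, .out 2130,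 .out 5449, .out 1058, .out 6116, .out 585, .out 5802, .out 248, .out 1829, .out 1218, .out 5652, .out 1054, .out 5700, .out 1091, .out 5848, .out 1059, .out 5269, .out 1826, .out 678, .out 5284, .out 5964, .out 5285, .out 1818, .out 5064, .out 2053, .out 4039, .out 2088, .out 4754, .out 2913, .out 5965, .out 5605, .out 2659, .out 2348, .out 4755, .out 3872, .out 5162, .out 5745, .out 3279, .out 4749, .out 4361, .out 1215, .out 6115, .out 1778, .out 1790, .out 3278, .out 2912, .out 1839, .out 5719, .out 5163, .out 3283, .out 1842, .out 1217, .out 2093, .out 4340, .out 2928, .out 5787, .out 1663, .out 1064, .out 3714]],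
  .sub [14, 18, 17, 14, 14] [.sub [] [.out 0, .sub [] [.out 13], .out 1, .out 92, .sub [20] [.out 557], .out 198, .out 174, .out 351, .out 228, .out 962, .out 372, .out 1407, .out 428, .out 1682, .out 1687, .out 1975, .out 660, .out 684, .out 2401, .out 2789, .out 1059, .out 1064, .out 1091, .out 1123, .out 3178, .out 3356, .out 1227, .out 3595, .out 3751, .out 1790, .out 1830, .out 1877, .out 2339, .out 1944, .out 4397, .out 4827, .out 2785, .out 4076, .out 5094, .out 3772, .out 5059, .out 5587, .out 2896, .out 2963, .out 3037, .out 3040, .out 3075, .out 4521, .out 3172, .out 5673, .out 5909, .out 4197, .out 3561, .out 5967, .out 5969, .out 3756, .out 5457, .out 4394, .out 4442, .out 4478, .out 6115, .out 4535, .out 5755, .out 6127, .out 5750, .out 4785, .out 6124, .out 5959, .out 5188, .out 5199, .out 5664, .out 5736, .out 5701, .out 6122, .out 5787, .out 6098], .sub [15] [.out 0, .sub [] [.out 13], .out 1, .out 92, .sub [20] [.out 557], .out 372, .out 174, .out 660, .out 428, .out 1687, .out 198, .out 2401, .out 228, .out 2785, .out 962, .out 3172, .out 351, .out 1227, .out 1407,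 .out 4197, .out 1091, .out 1790, .out 1059, .out 1944, .out 2896, .out 4827, .out 684, .out 5059, .out 5188, .out 1064, .out 2339, .out 3040, .out 1830, .out 1123, .out 2963, .out 3356, .out 1682, .out 5457, .out 5967, .out 5199, .out 3595, .out 4785, .out 3178, .out 4397, .out 4478, .out 1877, .out 4521, .out 3075, .out 1975, .out 4394, .out 5664, .out 2789, .out 3756, .out 5094, .out 6098, .out 3561, .out 4076, .out 5673, .out 5701, .out 3037, .out 6115, .out 5750, .out 6124, .out 6127, .out 4535, .out 5587, .out 5755, .out 5959, .out 3751, .out 3772, .out 5909, .out 5736, .out 4442, .out 6122, .out 5787, .out 5969], .sub [17] [.out 0, .sub [] [.out 13], .out 1, .out 92, .sub [20] [.out 557], .out 3178, .out 174, .out 1975, .out 5199, .out 5457, .out 2896, .out 4827, .out 3772, .out 1944, .out 4076, .out 351, .out 3172, .out 4394, .out 3356, .out 5094, .out 1059, .out 1064, .out 1091, .out 2785, .out 198, .out 2401, .out 5673, .out 3075, .out 2963, .out 1790, .out 2339, .out 3756, .out 1830, .out 1682, .out 5188, .out 1407, .out 1123, .out 1687, .out 2789, .out 428, .out 4521, .out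 3037, .out 372, .out 3751, .out 5587, .out 3561, .out 3595, .out 5059, .out 660, .out 1227, .out 5969, .out 5967, .out 3040, .out 4197, .out 5909, .out 1877, .out 962, .out 684, .out 5701, .out 4785, .out 6115, .out 6124, .out 5750, .out 5736, .out 5755, .out 4478, .out 4535, .out 6122, .out 4397, .out 228, .out 6098, .out 6127, .out 4442, .out 5959, .out 5787, .out 5664], .sub [18] [.out 0, .sub [20] [.out 13], .out 1, .out 174, .sub [] [.out 557], .out 1694, .out 92, .out 529, .out 69, .out 4128, .out 1257, .out 2846, .out 39, .out 5451, .out 2736, .out 1557, .out 955, .out 688, .out 1728, .out 1645, .out 1663, .out 1058, .out 1842, .out 3134, .out 1915, .out 5583, .out 366, .out 3284, .out 4759, .out 585, .out 5701, .out 1883, .out 4442, .out 1941, .out 1820, .out 5593, .out 5541, .out 4074, .out 2781, .out 436, .out 2056, .out 1776, .out 3101, .out 2968, .out 1779, .out 1088, .out 3669, .out 2335, .out 954, .out 3288, .out 2100, .out 931, .out 1411, .out 4186, .out 5058, .out 791, .out 2690, .out 2057, .out 2339, .out 1020, .out 6115, .out 1912, .out 4541, .out 1832, .out 1103,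 .out 1786, .out 4560, .out 2983, .out 3287, .out 232, .out 3347, .out 1886, .out 1830, .out 3056, .out 5787, .out 3935], .sub [17, 15] [.out 0, .sub [] [.out 13], .out 1, .out 92, .sub [20] [.out 557], .out 2896, .out 174, .out 3172, .out 3772, .out 4076, .out 3178, .out 3356, .out 5199, .out 1123, .out 5457, .out 660, .out 1975, .out 5673, .out 4827, .out 5967, .out 1091, .out 1790, .out 1059, .out 1682, .out 372, .out 1407, .out 4394, .out 4521, .out 4397, .out 1064, .out 1830, .out 3561, .out 2339, .out 2785, .out 3751, .out 2401, .out 1944, .out 962, .out 4197, .out 228, .out 3075, .out 4478, .out 198, .out 5188, .out 4785, .out 3756, .out 5059, .out 3595, .out 351, .out 684, .out 6098, .out 5094, .out 1877, .out 2789, .out 5664, .out 3040, .out 1687, .out 1227, .out 4442, .out 5587, .out 6115, .out 5755, .out 4535, .out 5736, .out 6124, .out 3037, .out 5750, .out 6122, .out 2963, .out 428, .out 5969, .out 6127, .out 5701, .out 5959, .out 5787, .out 5909], .sub [18, 15] [.out 0, .sub [20] [.out 13], .out 1, .out 174, .sub [] [.out 557], .out 1257, .out 92, .out 955, .out 39, .out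 2736, .out 1694, .out 1728, .out 69, .out 5541, .out 4128, .out 954, .out 529, .out 366, .out 2846, .out 931, .out 1842, .out 585, .out 1663, .out 1941, .out 3101, .out 5593, .out 688, .out 2056, .out 3287, .out 1058, .out 4442, .out 1088, .out 5701, .out 3134, .out 2968, .out 5583, .out 5451, .out 2690, .out 4186, .out 232, .out 3284, .out 1786, .out 1915, .out 1820, .out 1020, .out 1883, .out 2335, .out 3669, .out 1557, .out 2057, .out 3347, .out 1645, .out 791, .out 2781, .out 3935, .out 1411, .out 4074, .out 3288, .out 1830, .out 1779, .out 6115, .out 1103, .out 4560, .out 1832, .out 1912, .out 1776, .out 4541, .out 2983, .out 4759, .out 436, .out 2100, .out 1886, .out 2339, .out 3056, .out 5787, .out 5058], .sub [18, 17] [.out 0, .sub [20] [.out 13], .out 1, .out 174, .sub [] [.out 557], .out 1915, .out 92, .out 1557, .out 232, .out 2690, .out 3101, .out 5593, .out 436, .out 1941, .out 4074, .out 529, .out 954, .out 2057, .out 5583, .out 2781, .out 1663, .out 1058, .out 1842, .out 5541, .out 1694, .out 1728, .out 3288, .out 3669, .out 2968, .out 585, .out 4442, .out 791, .out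 5701, .out 5451, .out 3287, .out 2846, .out 3134, .out 2736, .out 1645, .out 39, .out 2335, .out 1779, .out 1257, .out 4759, .out 1776, .out 1411, .out 3284, .out 2056, .out 955, .out 366, .out 5058, .out 4186, .out 1088, .out 931, .out 2100, .out 1883, .out 4128, .out 688, .out 1830, .out 1786, .out 6115, .out 4560, .out 1103, .out 1886, .out 4541, .out 1020, .out 1912, .out 3056, .out 1820, .out 69, .out 3935, .out 1832, .out 2339, .out 2983, .out 5787, .out 3347], .sub [20, 18] [.out 0, .sub [] [.out 13], .out 1, .out 92, .sub [20] [.out 557], .out 2896, .out 174, .out 3172, .out 3772, .out 4076, .out 3178, .out 3356, .out 5199, .out 1123, .out 5457, .out 660, .out 1975, .out 5673, .out 4827, .out 5967, .out 1091, .out 1790, .out 1059, .out 1682, .out 372, .out 1407, .out 4394, .out 4521, .out 4397, .out 1064, .out 1830, .out 3561, .out 2339, .out 2785, .out 3751, .out 2401, .out 1944, .out 962, .out 4197, .out 228, .out 3075, .out 4478, .out 198, .out 5188, .out 4785, .out 3756, .out 5059, .out 3595, .out 351, .out 684, .out 6098, .out 5094, .out 1877, .out 2789, .out 5664, .out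 3040, .out 1687, .out 1227, .out 4442, .out 5587, .out 6115, .out 5755, .out 4535, .out 5736, .out 6124, .out 3037, .out 5750, .out 6122, .out 2963, .out 428, .out 5969, .out 6127, .out 5701, .out 5959, .out 5787, .out 5909], .sub [21, 18] [.out 0, .sub [20] [.out 1374], .out 1, .out 174, .sub [] [.out 2006], .out 539, .out 92, .out 257, .out 2411, .out 2937, .out 953, .out 1794, .out 2569, .out 456, .out 1726, .out 2796, .out 4017, .out 4820, .out 1101, .out 128, .out 4426, .out 1830, .out 5142, .out 242, .out 1550, .out 1243, .out 1365, .out 4403, .out 1910, .out 2339, .out 6127, .out 4133, .out 5736, .out 2124, .out 3093, .out 1908, .out 3379, .out 1797, .out 2127, .out 1881, .out 2844, .out 5456, .out 970, .out 569, .out 2054, .out 4597, .out 4264, .out 2967, .out 481, .out 5325, .out 1937, .out 1236, .out 2738, .out 245, .out 4307, .out 3133, .out 2842, .out 763, .out 1832, .out 5839, .out 2928, .out 3282, .out 4753, .out 585, .out 5498, .out 3280, .out 6076, .out 1059, .out 303, .out 1522, .out 4130, .out 1058, .out 1886, .out 1091, .out 1839, .out 3130], .sub [21, 18, 15] [.out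 0, .sub [20] [.out 1374], .out 1, .out 174, .sub [] [.out 2006], .out 970, .out 92, .out 481, .out 1881, .out 1797, .out 1550, .out 1243, .out 1522, .out 242, .out 2842, .out 4017, .out 2796, .out 5325, .out 1908, .out 245, .out 5142, .out 2339, .out 4426, .out 456, .out 953, .out 1794, .out 763, .out 2967, .out 3093, .out 1830, .out 6127, .out 2738, .out 5736, .out 3379, .out 1910, .out 1101, .out 2124, .out 2937, .out 1236, .out 2411, .out 4264, .out 5839, .out 539, .out 303, .out 3280, .out 3133, .out 2844, .out 4403, .out 257, .out 4820, .out 3130, .out 2127, .out 4133, .out 128, .out 4130, .out 4597, .out 1726, .out 1365, .out 1832, .out 5456, .out 2928, .out 4753, .out 3282, .out 1058, .out 6076, .out 2054, .out 5498, .out 1091, .out 569, .out 2569, .out 4307, .out 585, .out 1886, .out 1059, .out 1839, .out 1937], .sub [21, 18, 17] [.out 0, .sub [20] [.out 1374], .out 1, .out 174, .sub [] [.out 2006], .out 953, .out 92, .out 4017, .out 2569, .out 1726, .out 539, .out 1101, .out 2411, .out 3379, .out 2937, .out 481, .out 257, .out 1365, .out 1794, .out 1236, .out 5142, .out 2339,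 .out 4426, .out 2124, .out 970, .out 1908, .out 4820, .out 2844, .out 303, .out 1830, .out 5736, .out 4597, .out 6127, .out 242, .out 569, .out 1243, .out 456, .out 2842, .out 245, .out 1522, .out 4403, .out 3280, .out 1550, .out 3093, .out 5839, .out 4133, .out 2967, .out 4264, .out 2796, .out 763, .out 4130, .out 128, .out 3133, .out 2127, .out 3130, .out 2738, .out 1797, .out 5325, .out 1886, .out 2054, .out 2928, .out 5498, .out 6076, .out 585, .out 3282, .out 5456, .out 4753, .out 1059, .out 1910, .out 1881, .out 1937, .out 1058, .out 1832, .out 1091, .out 1839, .out 4307], .sub [21, 20, 18] [.out 0, .sub [] [.out 1374], .out 1, .out 92, .sub [20] [.out 2006], .out 1960, .out 174, .out 3153, .out 1817, .out 4312, .out 74, .out 2617, .out 3327, .out 6040, .out 4362, .out 71, .out 40, .out 2351, .out 1238, .out 6073, .out 1373, .out 5701, .out 1056, .out 6130, .out 137, .out 2981, .out 2094, .out 5722, .out 583, .out 4442, .out 1886, .out 5378, .out 1832, .out 3854, .out 1053, .out 690, .out 5272, .out 5615, .out 3874, .out 1047, .out 3603, .out 1780, .out 3157, .out 3329, .out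 5658, .out 2851, .out 5065, .out 5635, .out 4038, .out 1370, .out 5156, .out 2517, .out 5717, .out 5885, .out 4157, .out 4275, .out 2933, .out 2084, .out 5736, .out 1021, .out 2928, .out 4747, .out 4338, .out 1064, .out 4477, .out 5998, .out 4752, .out 1842, .out 2091, .out 3337, .out 5522, .out 1790, .out 6127, .out 1663, .out 1839, .out 3700], .sub [18, 21, 18] [.out 0, .sub [] [.out 1374], .out 1, .out 92, .sub [20] [.out 2006], .out 1960, .out 174, .out 3153, .out 1817, .out 4312, .out 74, .out 2617, .out 3327, .out 6040, .out 4362, .out 71, .out 40, .out 2351, .out 1238, .out 6073, .out 1373, .out 5701, .out 1056, .out 6130, .out 137, .out 2981, .out 2094, .out 5722, .out 583, .out 4442, .out 1886, .out 5378, .out 1832, .out 3854, .out 1053, .out 690, .out 5272, .out 5615, .out 3874, .out 1047, .out 3603, .out 1780, .out 3157, .out 3329, .out 5658, .out 2851, .out 5065, .out 5635, .out 4038, .out 1370, .out 5156, .out 2517, .out 5717, .out 5885, .out 4157, .out 4275, .out 2933, .out 2084, .out 5736, .out 1021, .out 2928, .out 4747, .out 4338, .out 1064, .out 4477, .out 5998,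 .out 4752, .out 1842, .out 2091, .out 3337, .out 5522, .out 1790, .out 6127, .out 1663, .out 1839, .out 3700], .sub [21, 21, 18] [.out 0, .sub [20] [.out 759], .out 1, .out 174, .sub [] [.out 164], .out 946, .out 92, .out 2199, .out 4127, .out 3090, .out 887, .out 5328, .out 3088, .out 2343, .out 301, .out 1276, .out 147, .out 1681, .out 4751, .out 3570, .out 5959, .out 1886, .out 6122, .out 4819, .out 1666, .out 5846, .out 4593, .out 1023, .out 5867, .out 1832, .out 1790, .out 2059, .out 1064, .out 2249, .out 3689, .out 3937, .out 3939, .out 565, .out 2261, .out 4542, .out 4552, .out 4760, .out 1572, .out 6075, .out 3291, .out 448, .out 567, .out 4544, .out 281, .out 5780, .out 124, .out 3593, .out 239, .out 5055, .out 234, .out 1200, .out 4546, .out 1755, .out 585, .out 5589, .out 5700, .out 4261, .out 4369, .out 2339, .out 5499, .out 5585, .out 2924, .out 1056, .out 3866, .out 5495, .out 2121, .out 1830, .out 1058, .out 1373, .out 6116, .out 3374], .sub [18, 21, 18, 15] [.out 0, .sub [] [.out 1374], .out 1, .out 92, .sub [20] [.out 2006], .out 3157, .out 174, .out 4038, .out 1047,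 .out 5615, .out 137, .out 2981, .out 3337, .out 6130, .out 2933, .out 40, .out 71, .out 1370, .out 690, .out 5885, .out 1056, .out 4442, .out 1373, .out 6040, .out 74, .out 2617, .out 2084, .out 5635, .out 1053, .out 5701, .out 1886, .out 5717, .out 1832, .out 5272, .out 583, .out 1238, .out 3854, .out 4312, .out 2517, .out 1817, .out 5065, .out 1021, .out 1960, .out 2091, .out 5998, .out 4275, .out 3603, .out 5722, .out 3153, .out 2351, .out 3700, .out 3874, .out 5378, .out 6073, .out 5522, .out 2851, .out 4362, .out 2094, .out 5736, .out 1780, .out 2928, .out 4338, .out 4747, .out 1790, .out 4752, .out 5658, .out 4477, .out 1663, .out 3329, .out 3327, .out 4157, .out 1064, .out 6127, .out 1842, .out 1839, .out 5156], .sub [18, 21, 18, 17] [.out 0, .sub [] [.out 1374], .out 1, .out 92, .sub [20] [.out 2006], .out 74, .out 174, .out 40, .out 3327, .out 4362, .out 1960, .out 1238, .out 1817, .out 5272, .out 4312, .out 4038, .out 3153, .out 2094, .out 2617, .out 2517, .out 1056, .out 4442, .out 1373, .out 3854, .out 3157, .out 690, .out 2351, .out 3603, .out 2091, .out 5701, .out 1832,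 .out 2851, .out 1886, .out 6130, .out 3329, .out 2981, .out 6040, .out 2933, .out 5885, .out 3337, .out 5722, .out 5998, .out 137, .out 1053, .out 1021, .out 5378, .out 5635, .out 5065, .out 71, .out 2084, .out 5522, .out 6073, .out 4275, .out 3874, .out 3700, .out 5717, .out 5615, .out 1370, .out 6127, .out 5658, .out 2928, .out 4477, .out 4752, .out 1064, .out 4747, .out 1780, .out 4338, .out 1842, .out 583, .out 1047, .out 5156, .out 1790, .out 5736, .out 1663, .out 1839, .out 4157]],
  .sub [18, 14, 18, 17, 14, 14] [.sub [] [.out 0, .sub [] [.out 13], .out 92, .out 1, .out 174, .out 372, .sub [20] [.out 557], .out 660, .out 4827, .out 2789, .out 351, .out 1227, .out 3751, .out 4521, .out 1682, .out 3172, .out 198, .out 2401, .out 3772, .out 3075, .out 6115, .out 1790, .out 5787, .out 5457, .out 2896, .out 428, .out 4397, .out 1123, .out 4394, .out 1064, .out 6122, .out 3561, .out 5959, .out 5059, .out 5199, .out 5673, .out 962, .out 1944, .out 3595, .out 2963, .out 5967, .out 5755, .out 1975, .out 684, .out 5750, .out 5969, .out 2785, .out 4197, .out 3178, .out 5188, .out 6098,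 .out 1687, .out 5909, .out 4076, .out 5664, .out 3040, .out 5094, .out 3356, .out 5701, .out 5587, .out 1091, .out 4478, .out 4535, .out 6127, .out 6124, .out 3037, .out 4785, .out 1830, .out 228, .out 1407, .out 3756, .out 5736, .out 4442, .out 2339, .out 1059, .out 1877], .sub [15] [.out 0, .sub [] [.out 13], .out 92, .out 1, .out 174, .out 198, .sub [20] [.out 557], .out 351, .out 3356, .out 4197, .out 660, .out 684, .out 5188, .out 3075, .out 2785, .out 1975, .out 372, .out 1407, .out 5199, .out 4521, .out 6115, .out 1064, .out 5787, .out 4076, .out 3178, .out 228, .out 2963, .out 1944, .out 5673, .out 1790, .out 6122, .out 3756, .out 5959, .out 3595, .out 3772, .out 4394, .out 1687, .out 1123, .out 5059, .out 4397, .out 5094, .out 6124, .out 3172, .out 1227, .out 4535, .out 6098, .out 1682, .out 2789, .out 2896, .out 3751, .out 5969, .out 962, .out 5664, .out 5457, .out 5909, .out 1877, .out 5967, .out 4827, .out 4442, .out 4785, .out 1059, .out 3037, .out 5750, .out 6127, .out 5755, .out 4478, .out 5587, .out 2339, .out 428, .out 2401, .out 3561, .out 5736, .out 5701, .out 1830,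 .out 1091, .out 3040], .sub [17] [.out 0, .sub [] [.out 13], .out 92, .out 1, .out 174, .out 2896, .sub [20] [.out 557], .out 3172, .out 1407, .out 5094, .out 1975, .out 5673, .out 2963, .out 5059, .out 1944, .out 660, .out 3178, .out 3356, .out 428, .out 3595, .out 6115, .out 1790, .out 5787, .out 962, .out 372, .out 3772, .out 5188, .out 2785, .out 684, .out 1064, .out 5959, .out 3040, .out 6122, .out 4521, .out 228, .out 1227, .out 5457, .out 1682, .out 3075, .out 3751, .out 4197, .out 5750, .out 351, .out 4394, .out 5755, .out 5909, .out 1123, .out 5967, .out 198, .out 4397, .out 5664, .out 4076, .out 5969, .out 1687, .out 6098, .out 3561, .out 2789, .out 2401, .out 4442, .out 3037, .out 1091, .out 4785, .out 6124, .out 5736, .out 4535, .out 5587, .out 4478, .out 2339, .out 5199, .out 4827, .out 1877, .out 6127, .out 5701, .out 1830, .out 1059, .out 3756], .sub [18] [.out 0, .sub [20] [.out 13], .out 174, .out 1, .out 92, .out 1257, .sub [] [.out 557], .out 955, .out 5593, .out 1645, .out 529, .out 366, .out 4759, .out 2335, .out 5451, .out 954, .out 1694, .out 1728, .out 436,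 .out 3669, .out 6115, .out 585, .out 5787, .out 2690, .out 3101, .out 39, .out 1820, .out 3134, .out 2057, .out 1058, .out 3056, .out 1411, .out 2983, .out 2056, .out 232, .out 3288, .out 4128, .out 1941, .out 3284, .out 2968, .out 4186, .out 4541, .out 1557, .out 688, .out 1103, .out 5058, .out 5541, .out 931, .out 1915, .out 3287, .out 3935, .out 2736, .out 2100, .out 4074, .out 3347, .out 1088, .out 2781, .out 5583, .out 1830, .out 1776, .out 1842, .out 1020, .out 1912, .out 1832, .out 4560, .out 1779, .out 1786, .out 5701, .out 69, .out 2846, .out 791, .out 1886, .out 2339, .out 4442, .out 1663, .out 1883], .sub [17, 15] [.out 0, .sub [] [.out 13], .out 92, .out 1, .out 174, .out 3178, .sub [20] [.out 557], .out 1975, .out 2401, .out 5967, .out 3172, .out 4394, .out 4397, .out 3595, .out 1123, .out 351, .out 2896, .out 4827, .out 228, .out 5059, .out 6115, .out 1064, .out 5787, .out 1687, .out 198, .out 5199, .out 3751, .out 1682, .out 1227, .out 1790, .out 5959, .out 1877, .out 6122, .out 3075, .out 428, .out 684, .out 4076, .out 2785, .out 4521, .out 5188, .out 2789, .out 4535,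 .out 660, .out 5673, .out 6124, .out 5664, .out 1944, .out 5094, .out 372, .out 2963, .out 5909, .out 5457, .out 6098, .out 962, .out 5969, .out 3756, .out 4197, .out 1407, .out 5701, .out 4478, .out 1059, .out 5587, .out 5755, .out 5736, .out 5750, .out 4785, .out 3037, .out 1830, .out 3772, .out 3356, .out 3040, .out 6127, .out 4442, .out 2339, .out 1091, .out 3561], .sub [18, 15] [.out 0, .sub [20] [.out 13], .out 174, .out 1, .out 92, .out 1694, .sub [] [.out 557], .out 529, .out 5583, .out 931, .out 955, .out 688, .out 3287, .out 3669, .out 5541, .out 1557, .out 1257, .out 2846, .out 232, .out 2335, .out 6115, .out 1058, .out 5787, .out 4074, .out 1915, .out 69, .out 2968, .out 1941, .out 3288, .out 585, .out 3056, .out 791, .out 2983, .out 3284, .out 436, .out 2057, .out 2736, .out 3134, .out 2056, .out 1820, .out 2781, .out 4560, .out 954, .out 366, .out 1912, .out 3935, .out 5451, .out 1645, .out 3101, .out 4759, .out 5058, .out 4128, .out 3347, .out 2690, .out 2100, .out 1883, .out 4186, .out 5593, .out 2339, .out 1786, .out 1663, .out 1779, .out 1103, .out 1832, .out 4541,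 .out 1020, .out 1776, .out 4442, .out 39, .out 1728, .out 1411, .out 1886, .out 1830, .out 5701, .out 1842, .out 1088], .sub [18, 17] [.out 0, .sub [20] [.out 13], .out 174, .out 1, .out 92, .out 3101, .sub [] [.out 557], .out 954, .out 2846, .out 2781, .out 1557, .out 3288, .out 2968, .out 2056, .out 1941, .out 955, .out 1915, .out 5583, .out 39, .out 3284, .out 6115, .out 585, .out 5787, .out 4128, .out 1257, .out 436, .out 3287, .out 5541, .out 688, .out 1058, .out 2983, .out 1088, .out 3056, .out 2335, .out 69, .out 366, .out 2690, .out 5451, .out 3669, .out 4759, .out 931, .out 1103, .out 529, .out 2057, .out 4541, .out 2100, .out 3134, .out 4186, .out 1694, .out 1820, .out 3347, .out 4074, .out 5058, .out 2736, .out 3935, .out 1411, .out 1645, .out 1728, .out 2339, .out 1779, .out 1842, .out 1786, .out 4560, .out 1886, .out 1912, .out 1776, .out 1020, .out 4442, .out 232, .out 5593, .out 1883, .out 1832, .out 1830, .out 5701, .out 1663, .out 791], .sub [20, 18] [.out 0, .sub [] [.out 13], .out 92, .out 1, .out 174, .out 3178, .sub [20] [.out 557], .out 1975, .out 2401, .out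 5967, .out 3172, .out 4394, .out 4397, .out 3595, .out 1123, .out 351, .out 2896, .out 4827, .out 228, .out 5059, .out 6115, .out 1064, .out 5787, .out 1687, .out 198, .out 5199, .out 3751, .out 1682, .out 1227, .out 1790, .out 5959, .out 1877, .out 6122, .out 3075, .out 428, .out 684, .out 4076, .out 2785, .out 4521, .out 5188, .out 2789, .out 4535, .out 660, .out 5673, .out 6124, .out 5664, .out 1944, .out 5094, .out 372, .out 2963, .out 5909, .out 5457, .out 6098, .out 962, .out 5969, .out 3756, .out 4197, .out 1407, .out 5701, .out 4478, .out 1059, .out 5587, .out 5755, .out 5736, .out 5750, .out 4785, .out 3037, .out 1830, .out 3772, .out 3356, .out 3040, .out 6127, .out 4442, .out 2339, .out 1091, .out 3561], .sub [21, 18] [.out 0, .sub [20] [.out 1374], .out 174, .out 1, .out 92, .out 953, .sub [] [.out 2006], .out 4017, .out 1908, .out 128, .out 257, .out 1365, .out 1910, .out 2967, .out 456, .out 481, .out 539, .out 1101, .out 1881, .out 4264, .out 2928, .out 2339, .out 1839, .out 2842, .out 970, .out 2569, .out 3093, .out 242, .out 763, .out 1830, .out 1091, .out 2738, .out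 1059, .out 2844, .out 1522, .out 5325, .out 2937, .out 2124, .out 4403, .out 569, .out 245, .out 4753, .out 2796, .out 4820, .out 5498, .out 4307, .out 3379, .out 1236, .out 1550, .out 303, .out 3130, .out 1726, .out 1937, .out 1797, .out 4130, .out 4597, .out 2127, .out 1243, .out 1886, .out 5456, .out 5142, .out 5839, .out 3282, .out 585, .out 6076, .out 2054, .out 3280, .out 6127, .out 2411, .out 1794, .out 3133, .out 1058, .out 1832, .out 5736, .out 4426, .out 4133], .sub [21, 18, 15] [.out 0, .sub [20] [.out 1374], .out 174, .out 1, .out 92, .out 1550, .sub [] [.out 2006], .out 2796, .out 1101, .out 245, .out 481, .out 763, .out 3093, .out 4403, .out 242, .out 257, .out 970, .out 1908, .out 2411, .out 2844, .out 2928, .out 1830, .out 1839, .out 1726, .out 539, .out 1522, .out 1910, .out 456, .out 1365, .out 2339, .out 1059, .out 4133, .out 1091, .out 4264, .out 2569, .out 4820, .out 1797, .out 3379, .out 2967, .out 303, .out 128, .out 3282, .out 4017, .out 5325, .out 6076, .out 4130, .out 2124, .out 2127, .out 953, .out 569, .out 1937, .out 2842, .out 3130, .out 2937, .out 4307,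 .out 3133, .out 1236, .out 1794, .out 1886, .out 5839, .out 4426, .out 5456, .out 4753, .out 1058, .out 5498, .out 3280, .out 2054, .out 6127, .out 1881, .out 1243, .out 4597, .out 585, .out 1832, .out 5736, .out 5142, .out 2738], .sub [21, 18, 17] [.out 0, .sub [20] [.out 1374], .out 174, .out 1, .out 92, .out 539, .sub [] [.out 2006], .out 257, .out 1243, .out 1236, .out 4017, .out 4820, .out 303, .out 4264, .out 3379, .out 2796, .out 953, .out 1794, .out 1522, .out 2967, .out 2928, .out 1830, .out 1839, .out 1797, .out 1550, .out 2411, .out 569, .out 2124, .out 5325, .out 2339, .out 1091, .out 3133, .out 1059, .out 4403, .out 1881, .out 763, .out 1726, .out 242, .out 2844, .out 3093, .out 2127, .out 6076, .out 481, .out 1365, .out 3282, .out 3130, .out 456, .out 128, .out 970, .out 1910, .out 4307, .out 2937, .out 4130, .out 2842, .out 1937, .out 4133, .out 245, .out 1908, .out 1832, .out 3280, .out 4426, .out 2054, .out 5498, .out 585, .out 4753, .out 5839, .out 5456, .out 5736, .out 2569, .out 1101, .out 2738, .out 1058, .out 1886, .out 6127, .out 5142, .out 4597], .sub [21,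 20, 18] [.out 0, .sub [] [.out 1374], .out 92, .out 1, .out 174, .out 74, .sub [20] [.out 2006], .out 40, .out 690, .out 6073, .out 3153, .out 2094, .out 583, .out 5635, .out 6040, .out 4038, .out 1960, .out 1238, .out 1047, .out 5065, .out 2928, .out 4442, .out 1839, .out 2933, .out 3157, .out 3327, .out 1053, .out 6130, .out 2084, .out 5701, .out 1663, .out 5717, .out 1842, .out 3603, .out 3337, .out 1370, .out 4312, .out 3854, .out 5722, .out 3329, .out 5885, .out 4338, .out 71, .out 2351, .out 4477, .out 4157, .out 5272, .out 2517, .out 137, .out 2091, .out 3700, .out 4362, .out 5156, .out 5615, .out 5522, .out 2851, .out 3874, .out 2981, .out 6127, .out 1780, .out 1056, .out 1021, .out 4747, .out 1064, .out 4752, .out 5658, .out 5998, .out 1886, .out 1817, .out 2617, .out 4275, .out 1790, .out 5736, .out 1832, .out 1373, .out 5378], .sub [18, 21, 18] [.out 0, .sub [] [.out 1374], .out 92, .out 1, .out 174, .out 74, .sub [20] [.out 2006], .out 40, .out 690, .out 6073, .out 3153, .out 2094, .out 583, .out 5635, .out 6040, .out 4038, .out 1960, .out 1238, .out 1047, .out 5065, .out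 2928, .out 4442, .out 1839, .out 2933, .out 3157, .out 3327, .out 1053, .out 6130, .out 2084, .out 5701, .out 1663, .out 5717, .out 1842, .out 3603, .out 3337, .out 1370, .out 4312, .out 3854, .out 5722, .out 3329, .out 5885, .out 4338, .out 71, .out 2351, .out 4477, .out 4157, .out 5272, .out 2517, .out 137, .out 2091, .out 3700, .out 4362, .out 5156, .out 5615, .out 5522, .out 2851, .out 3874, .out 2981, .out 6127, .out 1780, .out 1056, .out 1021, .out 4747, .out 1064, .out 4752, .out 5658, .out 5998, .out 1886, .out 1817, .out 2617, .out 4275, .out 1790, .out 5736, .out 1832, .out 1373, .out 5378], .sub [21, 21, 18] [.out 0, .sub [20] [.out 759], .out 174, .out 1, .out 92, .out 887, .sub [] [.out 164], .out 147, .out 3937, .out 3570, .out 2199, .out 4593, .out 5867, .out 4544, .out 2343, .out 281, .out 946, .out 4751, .out 4542, .out 567, .out 5700, .out 1832, .out 6116, .out 4546, .out 1572, .out 3088, .out 3689, .out 4819, .out 1755, .out 1886, .out 1373, .out 239, .out 1056, .out 4552, .out 5495, .out 5780, .out 3090, .out 2249, .out 1023, .out 6075, .out 5055, .out 4369, .out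 1276, .out 1681, .out 5499, .out 234, .out 3939, .out 3593, .out 1666, .out 3866, .out 3374, .out 301, .out 124, .out 565, .out 2121, .out 448, .out 2261, .out 5846, .out 1058, .out 4760, .out 6122, .out 5589, .out 4261, .out 2339, .out 2924, .out 3291, .out 5585, .out 1790, .out 4127, .out 5328, .out 1200, .out 1830, .out 585, .out 1064, .out 5959, .out 2059], .sub [18, 21, 18, 15] [.out 0, .sub [] [.out 1374], .out 92, .out 1, .out 174, .out 137, .sub [20] [.out 2006], .out 71, .out 1238, .out 5885, .out 4038, .out 2084, .out 1053, .out 5722, .out 6130, .out 3153, .out 3157, .out 690, .out 1817, .out 3603, .out 2928, .out 5701, .out 1839, .out 4362, .out 1960, .out 3337, .out 583, .out 6040, .out 2094, .out 4442, .out 1842, .out 5378, .out 1663, .out 5065, .out 3327, .out 2351, .out 5615, .out 5272, .out 5635, .out 2091, .out 6073, .out 4747, .out 40, .out 1370, .out 4752, .out 5522, .out 3854, .out 3874, .out 74, .out 3329, .out 5156, .out 2933, .out 3700, .out 4312, .out 4157, .out 4275, .out 2517, .out 2617, .out 6127, .out 1021, .out 1373, .out 1780, .out 4338, .out 1790, .out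 4477, .out 5998, .out 5658, .out 1886, .out 1047, .out 2981, .out 2851, .out 1064, .out 5736, .out 1832, .out 1056, .out 5717], .sub [18, 21, 18, 17] [.out 0, .sub [] [.out 1374], .out 92, .out 1, .out 174, .out 1960, .sub [20] [.out 2006], .out 3153, .out 2981, .out 2517, .out 40, .out 2351, .out 2091, .out 5065, .out 5272, .out 71, .out 74, .out 2617, .out 3337, .out 5635, .out 2928, .out 5701, .out 1839, .out 5615, .out 137, .out 1817, .out 3329, .out 3854, .out 1370, .out 4442, .out 1663, .out 4275, .out 1842, .out 5722, .out 1047, .out 2084, .out 4362, .out 6130, .out 3603, .out 1053, .out 3874, .out 4752, .out 4038, .out 2094, .out 4747, .out 3700, .out 6040, .out 6073, .out 3157, .out 583, .out 4157, .out 4312, .out 5522, .out 2933, .out 5156, .out 5378, .out 5885, .out 690, .out 5736, .out 5998, .out 1373, .out 5658, .out 4477, .out 1064, .out 4338, .out 1021, .out 1780, .out 1832, .out 3327, .out 1238, .out 5717, .out 1790, .out 6127, .out 1886, .out 1056, .out 2851]],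
  .sub [14, 18, 17, 15, 14] [.sub [] [.out 0, .out 92, .sub [] [.out 1357], .out 174, .out 1, .out 2160, .sub [20] [.out 313], .out 1675, .out 68, .out 4125, .out 1573, .out 2847, .out 125, .out 4600, .out 5496, .out 528, .out 282, .out 666, .out 4268, .out 958, .out 1842, .out 1056, .out 1663, .out 3135, .out 2639, .out 4271, .out 1233, .out 3285, .out 2058, .out 1373, .out 5700, .out 1884, .out 6116, .out 4543, .out 3290, .out 5591, .out 5756, .out 4073, .out 4126, .out 123, .out 2509, .out 1024, .out 3060, .out 2969, .out 566, .out 3051, .out 2355, .out 4757, .out 1667, .out 1199, .out 2278, .out 2735, .out 1306, .out 1680, .out 4086, .out 2409, .out 5454, .out 2120, .out 2983, .out 1785, .out 5736, .out 1913, .out 3100, .out 1059, .out 3097, .out 1019, .out 4557, .out 1830, .out 4406, .out 238, .out 3346, .out 1091, .out 3056, .out 2339, .out 6127, .out 3592], .sub [15] [.out 0, .out 92, .sub [] [.out 1357], .out 174, .out 1, .out 3060, .sub [20] [.out 313], .out 1667, .out 123, .out 4073, .out 2639, .out 4271, .out 238, .out 3135, .out 5454, .out 282, .out 528, .out 1199, .out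 5591, .out 1680, .out 1663, .out 1373, .out 1842, .out 4600, .out 1573, .out 2847, .out 2120, .out 4757, .out 3290, .out 1056, .out 5700, .out 1306, .out 6116, .out 5756, .out 2058, .out 4268, .out 4543, .out 4125, .out 2735, .out 68, .out 2355, .out 1785, .out 2160, .out 4406, .out 1019, .out 2409, .out 2509, .out 3285, .out 1675, .out 666, .out 3592, .out 4126, .out 1884, .out 958, .out 3346, .out 3051, .out 5496, .out 1233, .out 2983, .out 1024, .out 5736, .out 3100, .out 1913, .out 1091, .out 4557, .out 566, .out 3097, .out 2339, .out 2969, .out 125, .out 4086, .out 1059, .out 3056, .out 1830, .out 6127, .out 2278], .sub [17] [.out 0, .out 92, .sub [] [.out 1357], .out 174, .out 1, .out 282, .sub [20] [.out 313], .out 1573, .out 2120, .out 4757, .out 1675, .out 2969, .out 1199, .out 958, .out 2355, .out 3060, .out 2160, .out 238, .out 3290, .out 4600, .out 1842, .out 1373, .out 1663, .out 1680, .out 1667, .out 4406, .out 123, .out 4073, .out 5591, .out 1056, .out 5700, .out 3346, .out 6116, .out 4126, .out 4268, .out 2058, .out 2735, .out 3285, .out 4543, .out 1233, .out 5454,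 .out 3097, .out 528, .out 2847, .out 3100, .out 2278, .out 5496, .out 4125, .out 2639, .out 125, .out 3051, .out 5756, .out 4086, .out 3135, .out 1306, .out 3592, .out 2509, .out 68, .out 3056, .out 4557, .out 6127, .out 1019, .out 566, .out 1059, .out 1024, .out 1913, .out 1785, .out 2339, .out 4271, .out 666, .out 1884, .out 1091, .out 2983, .out 1830, .out 5736, .out 2409], .sub [18] [.out 0, .out 174, .sub [20] [.out 1357], .out 92, .out 1, .out 142, .sub [] [.out 313], .out 77, .out 1185, .out 2619, .out 754, .out 3252, .out 356, .out 1559, .out 1520, .out 755, .out 1350, .out 3647, .out 1204, .out 2567, .out 1059, .out 4426, .out 1091, .out 2618, .out 404, .out 4724, .out 2050, .out 2699, .out 2033, .out 5142, .out 6116, .out 743, .out 5700, .out 3932, .out 3250, .out 668, .out 3941, .out 2778, .out 1677, .out 2035, .out 3994, .out 1966, .out 82, .out 353, .out 2072, .out 2248, .out 3996, .out 2572, .out 44, .out 4946, .out 2286, .out 2621, .out 1326, .out 3507, .out 399, .out 3550, .out 2566, .out 1195, .out 6122, .out 3164, .out 1886, .out 4556, .out 4784, .out 1663, .out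 4558, .out 3311, .out 3098, .out 5701, .out 664, .out 189, .out 744, .out 1842, .out 5959, .out 4442, .out 1832, .out 1328], .sub [17, 15] [.out 0, .out 92, .sub [] [.out 1357], .out 174, .out 1, .out 528, .sub [20] [.out 313], .out 2639, .out 1233, .out 3285, .out 1667, .out 4406, .out 666, .out 1680, .out 2509, .out 2160, .out 3060, .out 125, .out 2058, .out 3135, .out 1663, .out 1056, .out 1842, .out 958, .out 1675, .out 2969, .out 68, .out 4125, .out 4268, .out 1373, .out 5700, .out 4086, .out 6116, .out 2735, .out 5591, .out 3290, .out 4126, .out 4757, .out 5756, .out 2120, .out 5496, .out 4557, .out 282, .out 4271, .out 1913, .out 3592, .out 5454, .out 4073, .out 1573, .out 238, .out 2409, .out 4543, .out 3346, .out 4600, .out 1884, .out 2278, .out 2355, .out 123, .out 3056, .out 3097, .out 6127, .out 566, .out 1019, .out 1091, .out 1785, .out 3100, .out 1024, .out 1830, .out 2847, .out 1199, .out 1306, .out 1059, .out 2983, .out 2339, .out 5736, .out 3051], .sub [18, 15] [.out 0, .out 174, .sub [20] [.out 1357], .out 92, .out 1, .out 82, .sub [] [.out 313], .out 44, .out 2035,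 .out 2778, .out 404, .out 4724, .out 189, .out 2618, .out 2566, .out 1350, .out 755, .out 4946, .out 668, .out 3507, .out 1091, .out 5142, .out 1059, .out 1559, .out 754, .out 3252, .out 1195, .out 2572, .out 3250, .out 4426, .out 6116, .out 1326, .out 5700, .out 3941, .out 2033, .out 1204, .out 3932, .out 2619, .out 2621, .out 1185, .out 3996, .out 3164, .out 142, .out 664, .out 3311, .out 3550, .out 3994, .out 2699, .out 77, .out 3647, .out 1328, .out 1677, .out 743, .out 2567, .out 744, .out 2248, .out 1520, .out 2050, .out 6122, .out 1966, .out 1886, .out 4784, .out 4556, .out 1842, .out 3098, .out 2072, .out 4558, .out 4442, .out 353, .out 356, .out 399, .out 1663, .out 5959, .out 5701, .out 1832, .out 2286], .sub [18, 17] [.out 0, .out 174, .sub [20] [.out 1357], .out 92, .out 1, .out 1350, .sub [] [.out 313], .out 754, .out 1195, .out 2572, .out 77, .out 353, .out 4946, .out 2567, .out 3996, .out 82, .out 142, .out 189, .out 3250, .out 1559, .out 1059, .out 5142, .out 1091, .out 3507, .out 44, .out 664, .out 2035, .out 2778, .out 668, .out 4426, .out 6116, .out 744, .out 5700,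 .out 1677, .out 1204, .out 2033, .out 2621, .out 2699, .out 3932, .out 2050, .out 2566, .out 4558, .out 755, .out 3252, .out 4784, .out 2286, .out 1520, .out 2619, .out 404, .out 356, .out 2248, .out 3941, .out 399, .out 2618, .out 1326, .out 1328, .out 3994, .out 1185, .out 5959, .out 3098, .out 1832, .out 3311, .out 2072, .out 1663, .out 1966, .out 4556, .out 3164, .out 4442, .out 4724, .out 3647, .out 743, .out 1842, .out 6122, .out 5701, .out 1886, .out 3550], .sub [20, 18] [.out 0, .out 92, .sub [] [.out 1357], .out 174, .out 1, .out 1667, .sub [20] [.out 313], .out 3060, .out 666, .out 2509, .out 528, .out 2058, .out 1233, .out 4126, .out 3285, .out 1573, .out 2639, .out 68, .out 4406, .out 4543, .out 1842, .out 1373, .out 1663, .out 2735, .out 282, .out 3290, .out 125, .out 5496, .out 2847, .out 1056, .out 6116, .out 3592, .out 5700, .out 958, .out 4271, .out 2969, .out 1680, .out 2355, .out 4600, .out 1199, .out 4125, .out 3100, .out 1675, .out 5591, .out 3097, .out 4086, .out 4073, .out 5454, .out 2160, .out 123, .out 1306, .out 3135, .out 2278, .out 5756, .out 3051, .out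 3346, .out 4757, .out 238, .out 2983, .out 1913, .out 6127, .out 1785, .out 1024, .out 1091, .out 566, .out 4557, .out 1019, .out 1830, .out 4268, .out 2120, .out 2409, .out 1059, .out 3056, .out 2339, .out 5736, .out 1884], .sub [21, 18] [.out 0, .out 174, .sub [20] [.out 297], .out 92, .out 1, .out 698, .sub [] [.out 26], .out 1191, .out 5020, .out 5189, .out 1499, .out 3036, .out 6143, .out 5200, .out 794, .out 373, .out 4646, .out 6111, .out 3083, .out 429, .out 1056, .out 5959, .out 1373, .out 793, .out 661, .out 5862, .out 4531, .out 6011, .out 4534, .out 6122, .out 5787, .out 5979, .out 6115, .out 2111, .out 6118, .out 6155, .out 4393, .out 1816, .out 2960, .out 1876, .out 1414, .out 5458, .out 3484, .out 6044, .out 4748, .out 2786, .out 2112, .out 2962, .out 2539, .out 6045, .out 621, .out 1228, .out 4193, .out 5290, .out 6021, .out 1122, .out 3358, .out 1083, .out 1842, .out 2790, .out 1058, .out 5845, .out 3099, .out 4426, .out 1688, .out 1914, .out 5680, .out 6127, .out 1873, .out 5307, .out 5538, .out 5142, .out 1663, .out 5736, .out 585, .out 4192], .sub [21, 18, 15]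 [.out 0, .out 174, .sub [20] [.out 297], .out 92, .out 1, .out 373, .sub [] [.out 26], .out 661, .out 4531, .out 6011, .out 2539, .out 1873, .out 6111, .out 5290, .out 1414, .out 698, .out 3484, .out 6143, .out 4534, .out 793, .out 1373, .out 5959, .out 1056, .out 429, .out 1191, .out 6044, .out 5020, .out 5189, .out 3083, .out 6122, .out 5787, .out 6021, .out 6115, .out 1228, .out 6155, .out 6118, .out 2960, .out 2962, .out 4393, .out 1083, .out 794, .out 5680, .out 4646, .out 5862, .out 5845, .out 4192, .out 3358, .out 1816, .out 1499, .out 5307, .out 1122, .out 2111, .out 5538, .out 5200, .out 5979, .out 621, .out 2112, .out 1876, .out 1663, .out 1688, .out 585, .out 4748, .out 1914, .out 5142, .out 2790, .out 3099, .out 5458, .out 6127, .out 3036, .out 6045, .out 4193, .out 4426, .out 1842, .out 5736, .out 1058, .out 2786], .sub [21, 18, 17] [.out 0, .out 174, .sub [20] [.out 297], .out 92, .out 1, .out 3484, .sub [] [.out 26], .out 2539, .out 1876, .out 1816, .out 661, .out 5862, .out 5307, .out 793, .out 3358, .out 4646, .out 373, .out 6045, .out 6155, .out 5290, .out 1373,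 .out 6122, .out 1056, .out 5200, .out 1499, .out 3036, .out 1083, .out 2962, .out 6118, .out 5959, .out 5787, .out 4193, .out 6115, .out 4393, .out 4534, .out 3083, .out 2111, .out 5189, .out 1228, .out 5020, .out 2112, .out 2790, .out 698, .out 1873, .out 1914, .out 1122, .out 1414, .out 6011, .out 1191, .out 6111, .out 4192, .out 2960, .out 5979, .out 429, .out 5538, .out 2786, .out 794, .out 4531, .out 1842, .out 5458, .out 1058, .out 3099, .out 5845, .out 5142, .out 5680, .out 4748, .out 1688, .out 5736, .out 6044, .out 6143, .out 6021, .out 4426, .out 1663, .out 6127, .out 585, .out 621], .sub [21, 20, 18] [.out 0, .out 92, .sub [] [.out 297], .out 174, .out 1, .out 1699, .sub [20] [.out 26], .out 878, .out 1087, .out 1048, .out 875, .out 1792, .out 2568, .out 127, .out 4258, .out 2801, .out 1693, .out 3934, .out 3087, .out 460, .out 5142, .out 3056, .out 4426, .out 437, .out 1556, .out 1030, .out 600, .out 1819, .out 4461, .out 2983, .out 5787, .out 1646, .out 6115, .out 3289, .out 1102, .out 609, .out 1235, .out 4366, .out 689, .out 1412, .out 5582, .out 5497, .out 967, .out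 570, .out 3670, .out 1940, .out 1727, .out 5656, .out 478, .out 3348, .out 4591, .out 3384, .out 5502, .out 70, .out 2737, .out 5778, .out 987, .out 2340, .out 1059, .out 4075, .out 1790, .out 5132, .out 2055, .out 1373, .out 5455, .out 1198, .out 4129, .out 1886, .out 1027, .out 3936, .out 4187, .out 1056, .out 1091, .out 1832, .out 1064, .out 1120], .sub [18, 21, 18] [.out 0, .out 92, .sub [] [.out 297], .out 174, .out 1, .out 875, .sub [20] [.out 26], .out 1693, .out 2568, .out 4258, .out 1699, .out 3087, .out 1087, .out 1235, .out 1048, .out 478, .out 878, .out 600, .out 1792, .out 3384, .out 4426, .out 2983, .out 5142, .out 3289, .out 967, .out 609, .out 3934, .out 5582, .out 1027, .out 3056, .out 6115, .out 1940, .out 5787, .out 437, .out 570, .out 1030, .out 127, .out 987, .out 70, .out 3936, .out 1819, .out 1198, .out 1556, .out 1102, .out 4075, .out 1646, .out 5656, .out 1727, .out 2801, .out 2340, .out 4187, .out 460, .out 5778, .out 689, .out 1120, .out 5502, .out 4366, .out 3348, .out 1091, .out 3670, .out 1790, .out 5455, .out 4129, .out 1373, .out 5132, .out 5497, .out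 2055, .out 1886, .out 4461, .out 1412, .out 4591, .out 1056, .out 1059, .out 1832, .out 1064, .out 2737], .sub [21, 21, 18] [.out 0, .out 174, .sub [20] [.out 65], .out 92, .out 1, .out 4621, .sub [] [.out 36], .out 5425, .out 2916, .out 3887, .out 4617, .out 5996, .out 4341, .out 3392, .out 1239, .out 253, .out 3158, .out 5157, .out 4476, .out 3885, .out 2983, .out 1663, .out 3056, .out 579, .out 132, .out 1781, .out 5716, .out 582, .out 5419, .out 1842, .out 1839, .out 6140, .out 2928, .out 1052, .out 3035, .out 4737, .out 2133, .out 308, .out 1825, .out 4475, .out 2961, .out 5653, .out 133, .out 6107, .out 5634, .out 5258, .out 2132, .out 2525, .out 72, .out 5638, .out 5223, .out 3324, .out 5233, .out 1046, .out 3804, .out 6153, .out 1815, .out 3268, .out 5142, .out 5721, .out 1830, .out 4339, .out 5066, .out 5959, .out 4363, .out 4480, .out 5586, .out 1790, .out 2915, .out 5718, .out 5906, .out 6122, .out 4426, .out 1064, .out 2339, .out 6033], .sub [18, 21, 18, 15] [.out 0, .out 92, .sub [] [.out 297], .out 174, .out 1, .out 478, .sub [20] [.out 26], .out 967, .out 3934, .out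 5582, .out 2801, .out 4461, .out 600, .out 689, .out 1819, .out 875, .out 1556, .out 1087, .out 1027, .out 3289, .out 5142, .out 2983, .out 4426, .out 3384, .out 1693, .out 1102, .out 2568, .out 4258, .out 1792, .out 3056, .out 6115, .out 1120, .out 5787, .out 460, .out 1030, .out 570, .out 70, .out 1727, .out 127, .out 3348, .out 1048, .out 2055, .out 878, .out 609, .out 5455, .out 2737, .out 4366, .out 987, .out 1699, .out 1412, .out 5502, .out 437, .out 4591, .out 1235, .out 1940, .out 4187, .out 5656, .out 3936, .out 1059, .out 5132, .out 1064, .out 4075, .out 5497, .out 1056, .out 3670, .out 4129, .out 1198, .out 1886, .out 3087, .out 2340, .out 5778, .out 1373, .out 1091, .out 1832, .out 1790, .out 1646], .sub [18, 21, 18, 17] [.out 0, .out 92, .sub [] [.out 297], .out 174, .out 1, .out 1556, .sub [20] [.out 26], .out 2801, .out 3936, .out 987, .out 967, .out 609, .out 1412, .out 3289, .out 4366, .out 878, .out 478, .out 2340, .out 1030, .out 689, .out 5142, .out 3056, .out 4426, .out 1235, .out 1699, .out 3087, .out 3348, .out 1727, .out 570, .out 2983, .out 6115, .out 5778,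 .out 5787, .out 127, .out 1027, .out 1792, .out 437, .out 4258, .out 460, .out 2568, .out 5656, .out 3670, .out 875, .out 4461, .out 5497, .out 5502, .out 1819, .out 5582, .out 1693, .out 600, .out 2737, .out 70, .out 1940, .out 3384, .out 4591, .out 1646, .out 1048, .out 3934, .out 1091, .out 1198, .out 1790, .out 4129, .out 5455, .out 1056, .out 2055, .out 4075, .out 5132, .out 1832, .out 1102, .out 1087, .out 1120, .out 1373, .out 1059, .out 1886, .out 1064, .out 4187]],
  .out 106,
  .sub [14, 17, 14, 14, 14, 14] [.sub [] [.out 0, .out 92, .out 174, .sub [] [.out 1357], .sub [20] [.out 313], .out 1675, .out 1, .out 2160, .out 2058, .out 4600, .out 1573, .out 123, .out 5591, .out 4125, .out 958, .out 2639, .out 282, .out 3290, .out 1233, .out 5496, .out 6127, .out 1056, .out 5736, .out 2509, .out 528, .out 1199, .out 4268, .out 1680, .out 68, .out 1373, .out 1830, .out 4086, .out 2339, .out 5454, .out 666, .out 125, .out 4757, .out 4126, .out 4073, .out 2847, .out 3135, .out 566, .out 3060, .out 238, .out 1024, .out 1306, .out 2735, .out 5756, .out 1667, .out 4271, .out 2409, .out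 2355, .out 3051, .out 3285, .out 1884, .out 2278, .out 4543, .out 4406, .out 2983, .out 3097, .out 1663, .out 4557, .out 1019, .out 1059, .out 1785, .out 3100, .out 1913, .out 5700, .out 2120, .out 2969, .out 3592, .out 1091, .out 3056, .out 6116, .out 1842, .out 3346], .sub [15] [.out 0, .out 92, .out 174, .sub [] [.out 1357], .sub [20] [.out 313], .out 1667, .out 1, .out 3060, .out 3290, .out 3135, .out 2639, .out 68, .out 4268, .out 4073, .out 1680, .out 1573, .out 528, .out 2058, .out 2120, .out 5454, .out 6127, .out 1373, .out 5736, .out 2355, .out 282, .out 666, .out 5591, .out 958, .out 123, .out 1056, .out 2339, .out 3346, .out 1830, .out 5496, .out 1199, .out 238, .out 3285, .out 2735, .out 4125, .out 4271, .out 4600, .out 1019, .out 2160, .out 125, .out 1785, .out 1884, .out 4126, .out 4543, .out 1675, .out 2847, .out 3051, .out 2509, .out 2409, .out 4757, .out 1306, .out 3592, .out 5756, .out 2969, .out 2983, .out 4557, .out 1842, .out 3097, .out 566, .out 1091, .out 1024, .out 1913, .out 3100, .out 5700, .out 1233, .out 4406, .out 2278, .out 1059, .out 3056, .out 6116,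 .out 1663, .out 4086], .sub [17] [.out 0, .out 92, .out 174, .sub [] [.out 1357], .sub [20] [.out 313], .out 1573, .out 1, .out 282, .out 5591, .out 958, .out 1675, .out 1233, .out 2058, .out 4757, .out 4600, .out 1667, .out 2160, .out 4268, .out 123, .out 2355, .out 5736, .out 1373, .out 6127, .out 5454, .out 3060, .out 125, .out 3290, .out 3135, .out 2120, .out 1056, .out 2339, .out 1306, .out 1830, .out 2509, .out 238, .out 1199, .out 4125, .out 4543, .out 3285, .out 2969, .out 1680, .out 3100, .out 528, .out 666, .out 3097, .out 4086, .out 5756, .out 2735, .out 2639, .out 4406, .out 3592, .out 5496, .out 2278, .out 4073, .out 3346, .out 3051, .out 4126, .out 4271, .out 3056, .out 1024, .out 1663, .out 1785, .out 1913, .out 1059, .out 4557, .out 566, .out 1019, .out 5700, .out 68, .out 2847, .out 2409, .out 1091, .out 2983, .out 6116, .out 1842, .out 1884], .sub [18] [.out 0, .out 174, .out 92, .sub [20] [.out 1357], .sub [] [.out 313], .out 77, .out 1, .out 142, .out 2033, .out 1559, .out 754, .out 2035, .out 668, .out 2619, .out 2567, .out 404, .out 1350, .out 3250, .out 2050,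 .out 1520, .out 1832, .out 4426, .out 1886, .out 3994, .out 755, .out 4946, .out 1204, .out 3507, .out 1185, .out 5142, .out 5701, .out 399, .out 4442, .out 2566, .out 3647, .out 356, .out 2572, .out 1677, .out 2778, .out 3252, .out 2618, .out 2072, .out 82, .out 189, .out 1966, .out 1326, .out 2621, .out 3941, .out 44, .out 4724, .out 3550, .out 3996, .out 2248, .out 2699, .out 743, .out 2286, .out 3932, .out 664, .out 6122, .out 4558, .out 1091, .out 3098, .out 3311, .out 1663, .out 3164, .out 4784, .out 4556, .out 6116, .out 1195, .out 353, .out 1328, .out 1842, .out 5959, .out 5700, .out 1059, .out 744], .sub [17, 15] [.out 0, .out 92, .out 174, .sub [] [.out 1357], .sub [20] [.out 313], .out 2639, .out 1, .out 528, .out 4268, .out 1680, .out 1667, .out 2120, .out 3290, .out 3285, .out 3135, .out 1675, .out 3060, .out 5591, .out 68, .out 2509, .out 5736, .out 1056, .out 6127, .out 5496, .out 2160, .out 238, .out 2058, .out 4600, .out 1233, .out 1373, .out 1830, .out 1884, .out 2339, .out 2355, .out 125, .out 666, .out 4073, .out 5756, .out 4757, .out 4406, .out 958, .out 1913,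 .out 282, .out 1199, .out 4557, .out 3346, .out 4543, .out 4126, .out 1573, .out 2969, .out 2278, .out 5454, .out 3592, .out 4125, .out 4086, .out 2409, .out 2735, .out 2847, .out 3056, .out 1785, .out 1842, .out 1024, .out 3100, .out 1091, .out 3097, .out 1019, .out 566, .out 5700, .out 123, .out 4271, .out 3051, .out 1059, .out 2983, .out 6116, .out 1663, .out 1306], .sub [18, 15] [.out 0, .out 174, .out 92, .sub [20] [.out 1357], .sub [] [.out 313], .out 44, .out 1, .out 82, .out 3250, .out 2618, .out 404, .out 1185, .out 1204, .out 2778, .out 3507, .out 754, .out 755, .out 2033, .out 1195, .out 2566, .out 1832, .out 5142, .out 1886, .out 3996, .out 1350, .out 3647, .out 668, .out 2567, .out 2035, .out 4426, .out 4442, .out 744, .out 5701, .out 1520, .out 4946, .out 189, .out 2699, .out 2621, .out 2619, .out 4724, .out 1559, .out 3311, .out 142, .out 356, .out 3164, .out 743, .out 1677, .out 3932, .out 77, .out 3252, .out 2248, .out 3994, .out 3550, .out 2572, .out 1326, .out 1328, .out 3941, .out 353, .out 6122, .out 3098, .out 1059, .out 4558, .out 2072, .out 1842, .out 1966,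 .out 4556, .out 4784, .out 6116, .out 2050, .out 664, .out 2286, .out 1663, .out 5959, .out 5700, .out 1091, .out 399], .sub [18, 17] [.out 0, .out 174, .out 92, .sub [20] [.out 1357], .sub [] [.out 313], .out 754, .out 1, .out 1350, .out 668, .out 2567, .out 77, .out 2050, .out 2033, .out 2572, .out 1559, .out 44, .out 142, .out 1204, .out 2035, .out 3996, .out 1886, .out 5142, .out 1832, .out 2566, .out 82, .out 356, .out 3250, .out 2618, .out 1195, .out 4426, .out 4442, .out 1326, .out 5701, .out 3994, .out 189, .out 4946, .out 2619, .out 3932, .out 2699, .out 353, .out 3507, .out 4784, .out 755, .out 3647, .out 4558, .out 399, .out 3941, .out 2621, .out 404, .out 664, .out 1328, .out 1520, .out 2286, .out 2778, .out 744, .out 2248, .out 1677, .out 4724, .out 5959, .out 1966, .out 1091, .out 3164, .out 4556, .out 1663, .out 3098, .out 2072, .out 3311, .out 6116, .out 1185, .out 3252, .out 3550, .out 1842, .out 6122, .out 5700, .out 1059, .out 743], .sub [20, 18] [.out 0, .out 92, .out 174, .sub [] [.out 1357], .sub [20] [.out 313], .out 3060, .out 1, .out 1667, .out 2847, .out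 4126, .out 528, .out 1199, .out 2969, .out 2509, .out 4543, .out 282, .out 2639, .out 4271, .out 125, .out 3285, .out 5736, .out 1373, .out 6127, .out 4125, .out 1573, .out 123, .out 4406, .out 5756, .out 666, .out 1056, .out 1830, .out 3051, .out 2339, .out 4757, .out 68, .out 1233, .out 5454, .out 4600, .out 2355, .out 2058, .out 2735, .out 3097, .out 1675, .out 2120, .out 3100, .out 2278, .out 3135, .out 1680, .out 2160, .out 3290, .out 3346, .out 4073, .out 4086, .out 5496, .out 3592, .out 1306, .out 958, .out 4268, .out 2983, .out 566, .out 1663, .out 1019, .out 4557, .out 1091, .out 1913, .out 1024, .out 1785, .out 6116, .out 238, .out 5591, .out 1884, .out 1059, .out 3056, .out 5700, .out 1842, .out 2409], .sub [21, 18] [.out 0, .out 174, .out 92, .sub [20] [.out 297], .sub [] [.out 26], .out 1191, .out 1, .out 698, .out 4534, .out 5200, .out 1499, .out 1876, .out 6155, .out 5189, .out 429, .out 661, .out 4646, .out 6118, .out 4531, .out 794, .out 585, .out 5959, .out 1058, .out 1414, .out 373, .out 6045, .out 3083, .out 5290, .out 5020, .out 6122, .out 6127, .out 6021, .out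 5736, .out 3358, .out 6111, .out 6143, .out 2962, .out 2960, .out 1816, .out 3036, .out 793, .out 4748, .out 3484, .out 5307, .out 5458, .out 4193, .out 1228, .out 4393, .out 2539, .out 5862, .out 1122, .out 2112, .out 2786, .out 6011, .out 5979, .out 621, .out 2111, .out 1873, .out 1842, .out 1688, .out 1373, .out 5680, .out 1914, .out 4426, .out 2790, .out 3099, .out 5845, .out 5787, .out 1083, .out 6044, .out 4192, .out 5142, .out 1663, .out 6115, .out 1056, .out 5538], .sub [21, 18, 15] [.out 0, .out 174, .out 92, .sub [20] [.out 297], .sub [] [.out 26], .out 661, .out 1, .out 373, .out 3083, .out 5290, .out 2539, .out 1083, .out 6118, .out 6011, .out 793, .out 1191, .out 3484, .out 6155, .out 5020, .out 1414, .out 1058, .out 5959, .out 585, .out 794, .out 698, .out 5307, .out 4534, .out 5200, .out 4531, .out 6122, .out 6127, .out 5979, .out 5736, .out 2112, .out 6143, .out 6111, .out 1816, .out 4393, .out 2962, .out 1873, .out 429, .out 5845, .out 4646, .out 6045, .out 5680, .out 5538, .out 2111, .out 2960, .out 1499, .out 6044, .out 621, .out 3358, .out 4192, .out 5189, .out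 6021, .out 1122, .out 1228, .out 3036, .out 1663, .out 2790, .out 1056, .out 5458, .out 3099, .out 5142, .out 1688, .out 1914, .out 4748, .out 5787, .out 1876, .out 5862, .out 2786, .out 4426, .out 1842, .out 6115, .out 1373, .out 4193], .sub [21, 18, 17] [.out 0, .out 174, .out 92, .sub [20] [.out 297], .sub [] [.out 26], .out 2539, .out 1, .out 3484, .out 6118, .out 793, .out 661, .out 5020, .out 3083, .out 1816, .out 5290, .out 1499, .out 373, .out 4534, .out 1083, .out 3358, .out 585, .out 6122, .out 1058, .out 2112, .out 4646, .out 6111, .out 6155, .out 429, .out 1876, .out 5959, .out 5736, .out 5538, .out 6127, .out 794, .out 6045, .out 5307, .out 6011, .out 1228, .out 5189, .out 5862, .out 5200, .out 1914, .out 698, .out 6143, .out 2790, .out 5979, .out 2960, .out 2111, .out 1191, .out 3036, .out 2786, .out 1414, .out 1122, .out 2962, .out 4193, .out 4192, .out 4393, .out 6044, .out 1842, .out 5680, .out 1056, .out 1688, .out 4748, .out 5142, .out 5458, .out 5845, .out 3099, .out 5787, .out 4531, .out 1873, .out 621, .out 4426, .out 1663, .out 6115, .out 1373, .out 6021], .sub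 [21, 20, 18] [.out 0, .out 92, .out 174, .sub [] [.out 297], .sub [20] [.out 26], .out 878, .out 1, .out 1699, .out 4461, .out 127, .out 875, .out 1412, .out 609, .out 1048, .out 460, .out 1556, .out 1693, .out 1102, .out 600, .out 4258, .out 1064, .out 3056, .out 1790, .out 5582, .out 2801, .out 3348, .out 3087, .out 70, .out 1087, .out 2983, .out 1886, .out 2737, .out 1832, .out 987, .out 3934, .out 2568, .out 5656, .out 689, .out 4366, .out 1792, .out 437, .out 3670, .out 967, .out 3936, .out 5497, .out 5502, .out 3384, .out 1235, .out 478, .out 1030, .out 5778, .out 1727, .out 1940, .out 1819, .out 1646, .out 4591, .out 3289, .out 1027, .out 1059, .out 5455, .out 4426, .out 4129, .out 1198, .out 1373, .out 4075, .out 2055, .out 5132, .out 5787, .out 2340, .out 570, .out 1120, .out 1056, .out 1091, .out 6115, .out 5142, .out 4187], .sub [18, 21, 18] [.out 0, .out 92, .out 174, .sub [] [.out 297], .sub [20] [.out 26], .out 1693, .out 1, .out 875, .out 1027, .out 1235, .out 1699, .out 3936, .out 1030, .out 4258, .out 3384, .out 967, .out 878, .out 570, .out 3934, .out 1048, .out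 1064, .out 2983, .out 1790, .out 1819, .out 478, .out 2340, .out 1792, .out 689, .out 2568, .out 3056, .out 1886, .out 1120, .out 1832, .out 4366, .out 600, .out 1087, .out 1727, .out 70, .out 987, .out 3087, .out 3289, .out 4075, .out 1556, .out 1412, .out 1198, .out 5778, .out 460, .out 127, .out 2801, .out 609, .out 5502, .out 5656, .out 1646, .out 5582, .out 1940, .out 4187, .out 437, .out 4461, .out 1091, .out 5132, .out 5142, .out 2055, .out 5497, .out 1373, .out 3670, .out 4129, .out 5455, .out 6115, .out 3348, .out 1102, .out 2737, .out 1056, .out 1059, .out 5787, .out 4426, .out 4591], .sub [21, 21, 18] [.out 0, .out 174, .out 92, .sub [20] [.out 65], .sub [] [.out 36], .out 5425, .out 1, .out 4621, .out 5419, .out 3392, .out 4617, .out 4475, .out 4737, .out 3887, .out 3885, .out 132, .out 3158, .out 3035, .out 5716, .out 1239, .out 2339, .out 1663, .out 1830, .out 2961, .out 253, .out 5638, .out 4476, .out 1046, .out 2916, .out 1842, .out 1790, .out 3804, .out 1064, .out 1815, .out 5157, .out 4341, .out 2525, .out 1825, .out 308, .out 5996, .out 579, .out 5634, .out 133,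 .out 5718, .out 5653, .out 5233, .out 3324, .out 2133, .out 72, .out 1781, .out 6153, .out 2132, .out 5258, .out 582, .out 6140, .out 5223, .out 1052, .out 2915, .out 5142, .out 4363, .out 3056, .out 5586, .out 4480, .out 5959, .out 5721, .out 5066, .out 4339, .out 1839, .out 3268, .out 6107, .out 6033, .out 6122, .out 4426, .out 2928, .out 2983, .out 5906], .sub [18, 21, 18, 15] [.out 0, .out 92, .out 174, .sub [] [.out 297], .sub [20] [.out 26], .out 967, .out 1, .out 478, .out 1792, .out 689, .out 2801, .out 3348, .out 570, .out 5582, .out 3289, .out 1693, .out 1556, .out 1030, .out 2568, .out 1819, .out 1790, .out 2983, .out 1064, .out 1048, .out 875, .out 1412, .out 1027, .out 1235, .out 3934, .out 3056, .out 1886, .out 1940, .out 1832, .out 5656, .out 1087, .out 600, .out 987, .out 127, .out 1727, .out 4461, .out 3384, .out 5455, .out 878, .out 2340, .out 2055, .out 4591, .out 437, .out 70, .out 1699, .out 1102, .out 4187, .out 4366, .out 2737, .out 4258, .out 1120, .out 5502, .out 460, .out 3087, .out 1059, .out 3670, .out 4426, .out 1198, .out 4129, .out 1056, .out 5132, .out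 5497, .out 4075, .out 6115, .out 3936, .out 609, .out 1646, .out 1373, .out 1091, .out 5787, .out 5142, .out 5778], .sub [18, 21, 18, 17] [.out 0, .out 92, .out 174, .sub [] [.out 297], .sub [20] [.out 26], .out 2801, .out 1, .out 1556, .out 570, .out 3289, .out 967, .out 2568, .out 1792, .out 987, .out 689, .out 1699, .out 478, .out 1027, .out 3348, .out 4366, .out 1064, .out 3056, .out 1790, .out 5656, .out 878, .out 600, .out 1030, .out 3384, .out 3936, .out 2983, .out 1832, .out 4591, .out 1886, .out 1048, .out 2340, .out 1412, .out 5582, .out 460, .out 4258, .out 609, .out 1235, .out 5497, .out 875, .out 1087, .out 3670, .out 1940, .out 70, .out 437, .out 1693, .out 3087, .out 1646, .out 1819, .out 5502, .out 1727, .out 5778, .out 2737, .out 127, .out 1102, .out 1091, .out 2055, .out 4426, .out 5132, .out 4075, .out 1056, .out 1198, .out 5455, .out 4129, .out 6115, .out 3934, .out 4461, .out 4187, .out 1373, .out 1059, .out 5787, .out 5142, .out 1120]],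
  .out 187,
  .out 425,
  .out 535,
  .out 696,
  .out 789,
  .out 792,
  .out 960,
  .out 963,
  .out 1145,
  .out 1189,
  .out 1226,
  .out 1413,
  .out 1685,
  .out 1832,
  .out 1839,
  .out 1886,
  .out 1945,
  .out 1981,
  .out 2108,
  .out 2109,
  .out 2281,
  .out 2405,
  .out 2928,
  .out 2983,
  .out 3041,
  .out 3056,
  .out 3139,
  .out 3182,
  .out 3357,
  .out 3495,
  .out 3589,
  .out 3630,
  .out 3754,
  .out 3917,
  .out 4262,
  .out 4319,
  .out 4398,
  .out 4479,
  .out 4482,
  .out 4519,
  .out 4590,
  .out 4641,
  .out 4650,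
  .out 4912,
  .out 4950,
  .out 5017,
  .out 5068,
  .out 5075,
  .out 5190,
  .out 5313,
  .out 5674,
  .out 5700,
  .out 5720,
  .out 5736,
  .out 5751,
  .out 5763,
  .out 5787,
  .out 5847,
  .out 5861,
  .out 5910,
  .out 5959,
  .out 6010,
  .out 6013,
  .out 6110,
  .out 6115,
  .out 6116,
  .out 6122,
  .out 6127,
  .out 6135]

end CfsgLib.Spor.JThreeCent
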