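import Cfsg.Agent.Lib.Spor.ActCert.Search

/-!
Subgroups of the centralizer as word lists.
-/

set_option autoImplicit false
set_option maxRecDepth 100000
set_option maxHeartbeats 0

namespace CfsgLib.Spor.JThreeCent

open CfsgLib.Spor.TC CfsgLib.Spor.ActCert

/-- Generators of the extraspecial subgroup. -/
def qGens : List (List ℕ) := [[2], [17], [3, 7], [0, 17, 0, 20], [6, 20, 8, 6, 17, 7, 9, 0, 1, 8, 20, 2, 6, 9]]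

/-- Words in them for all the elements. -/
def qWords : List (List ℕ) := [[], [0], [1], [2], [3], [4], [0, 1], [0, 2], [0, 3], [0, 4], [1, 2], [1, 3], [1, 4], [2, 3], 
  [2, 4], [3, 2], [3, 4], [4, 1], [4, 3], [0, 1, 2], [0, 1, 3], [0, 2, 4], [1, 2, 3], 
  [1, 2, 4], [1, 3, 2], [1, 3, 4], [1, 4, 3], [2, 3, 4], [2, 4, 1], [2, 4, 3], [1, 2, 3, 4], 
  [1, 2, 4, 3]]

/-- Products with the generators. -/
def qTable : List (List ℕ) := [[1, 2, 3, 4, 5], [0, 6, 7, 8, 9], [6, 0, 10, 11, 12], [7, 10, 1, 13, 14], [8, 11, 15, 1, 16], 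
  [9, 17, 14, 18, 1], [2, 1, 19, 20, 17], [3, 19, 0, 15, 21], [4, 20, 13, 0, 18], 
  [5, 12, 21, 16, 0], [19, 3, 6, 22, 23], [20, 4, 24, 6, 25], [17, 9, 23, 26, 6], 
  [15, 22, 4, 7, 27], [21, 28, 9, 29, 7], [13, 24, 8, 3, 29], [18, 26, 29, 5, 8], 
  [12, 5, 28, 25, 2], [16, 25, 27, 9, 4], [10, 7, 2, 24, 28], [11, 8, 22, 2, 26], 
  [14, 23, 5, 27, 3], [24, 13, 11, 19, 30], [28, 21, 17, 31, 19], [22, 15, 20, 10, 31], 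
  [26, 18, 31, 12, 20], [25, 16, 30, 17, 11], [29, 31, 16, 14, 15], [23, 14, 12, 30, 10], 
  [27, 30, 18, 21, 13], [31, 29, 25, 23, 24], [30, 27, 26, 28, 22]]

/-- Generators of the complement. -/
def hGens : List (List ℕ) := [[3], [0, 8, 9, 17, 0, 8, 20, 6, 9, 7]]

/-- Words in them for all the elements. -/
def hWords : List (List ℕ) := [[], [0], [1], [0, 1], [1, 0], [1, 1], [0, 1, 0], [0, 1, 1], [1, 0, 1], [1, 1, 0], [0, 1, 0, 1], 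
  [0, 1, 1, 0], [1, 0, 1, 0], [1, 0, 1, 1], [1, 1, 0, 1], [0, 1, 0, 1, 0], [0, 1, 0, 1, 1], 
  [0, 1, 1, 0, 1], [1, 0, 1, 0, 1], [1, 0, 1, 1, 0], [1, 1, 0, 1, 0], [1, 1, 0, 1, 1], 
  [0, 1, 0, 1, 0, 1], [0, 1, 0, 1, 1, 0], [0, 1, 1, 0, 1, 0], [0, 1, 1, 0, 1, 1], 
  [1, 0, 1, 0, 1, 1], [1, 0, 1, 1, 0, 1], [1, 1, 0, 1, 0, 1], [0, 1, 0, 1, 0, 1, 1], 
  [0, 1, 0, 1, 1, 0, 1], [0, 1, 1, 0, 1, 0, 1], [1, 0, 1, 0, 1, 1, 0], [1, 0, 1, 1, 0, 1, 0], 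
  [1, 0, 1, 1, 0, 1, 1], [1, 1, 0, 1, 0, 1, 1], [0, 1, 0, 1, 0, 1, 1, 0], 
  [0, 1, 0, 1, 1, 0, 1, 0], [0, 1, 0, 1, 1, 0, 1, 1], [0, 1, 1, 0, 1, 0, 1, 1], 
  [1, 0, 1, 0, 1, 1, 0, 1], [1, 0, 1, 1, 0, 1, 0, 1], [1, 1, 0, 1, 0, 1, 1, 0], 
  [0, 1, 0, 1, 0, 1, 1, 0, 1], [0, 1, 0, 1, 1, 0, 1, 0, 1], [0, 1, 1, 0, 1, 0, 1, 1, 0], 
  [1, 0, 1, 0, 1, 1, 0, 1, 0], [1, 0, 1, 0, 1, 1, 0, 1, 1], [1, 0, 1, 1, 0, 1, 0, 1, 1], 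
  [1, 1, 0, 1, 0, 1, 1, 0, 1], [0, 1, 0, 1, 0, 1, 1, 0, 1, 0], [0, 1, 0, 1, 0, 1, 1, 0, 1, 1], 
  [0, 1, 0, 1, 1, 0, 1, 0, 1, 1], [0, 1, 1, 0, 1, 0, 1, 1, 0, 1], 
  [1, 0, 1, 1, 0, 1, 0, 1, 1, 0], [1, 1, 0, 1, 0, 1, 1, 0, 1, 0], 
  [0, 1, 0, 1, 1, 0, 1, 0, 1, 1, 0], [0, 1, 1, 0, 1, 0, 1, 1, 0, 1, 0], 
  [1, 0, 1, 1, 0, 1, 0, 1, 1, 0, 1], [0, 1, 0, 1, 1, 0, 1, 0, 1, 1, 0, 1]]

/-- Products with the generators. -/
def hTable : List (List ℕ) := [[1, 2], [0, 3], [4, 5], [6, 7], [2, 8], [9, 0], [3, 10], [11, 1], [12, 13], [5, 14], [15, 16], 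
  [7, 17], [8, 18], [19, 4], [20, 21], [10, 22], [23, 6], [24, 25], [25, 26], [13, 27], 
  [14, 28], [22, 9], [21, 29], [16, 30], [17, 31], [18, 11], [32, 12], [33, 34], [34, 35], 
  [36, 15], [37, 38], [38, 39], [26, 40], [27, 41], [28, 19], [42, 20], [29, 43], [30, 44], 
  [31, 23], [45, 24], [46, 47], [47, 48], [35, 49], [50, 51], [51, 52], [39, 53], [40, 45], 
  [41, 32], [54, 33], [55, 50], [43, 42], [44, 36], [56, 37], [57, 46], [48, 58], [49, 54], 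
  [52, 59], [53, 56], [59, 55], [58, 57]]

/-- Generators of a four group in the complement. -/
def vGens : List (List ℕ) := [[3], [9]]

/-- Words in them for all the elements. -/
def vWords : List (List ℕ) := [[], [0], [1], [0, 1]]

/-- Products with the generators. -/
def vTable : List (List ℕ) := [[1, 2], [0, 3], [3, 0], [2, 1]]

/-- Conjugation of the extraspecial subgroup by the other generators. -/
def qConj : List (List ℕ) := [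
  [0, 1, 2, 7, 11, 23, 6, 3, 20, 28, 19, 4, 14, 24, 12, 22, 29, 21, 27, 10, 8, 17, 15, 5, 13, 31, 30, 18, 9, 16, 26, 25], 
  [0, 1, 17, 29, 18, 8, 12, 27, 16, 4, 22, 11, 26, 7, 14, 3, 5, 25, 9, 24, 20, 21, 23, 10, 28, 2, 6, 13, 19, 15, 30, 31], 
  [0, 1, 2, 10, 20, 27, 6, 19, 11, 29, 3, 8, 30, 15, 26, 13, 28, 31, 23, 7, 4, 25, 24, 18, 22, 21, 14, 5, 16, 9, 12, 17]]

/-- The index of the involution. -/
def zIdx : ℕ := 1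

end CfsgLib.Spor.JThreeCent
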